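import Groth.Agent.Sga3.H798.CentSep

/-!
# Centralizers of tori in smooth separated groups are smooth closed subgroups

`isIso_of_isCentralizerOf` etc.: transfer of the properties of the centralizer constructed in
`H798.CentSep.exists_smooth_centralizer` to any centralizer.
-/

set_option autoImplicit false
universe u
open CategoryTheory MonoidalCategory CartesianMonoidalCategory MonObj GrpObj AlgebraicGeometry

namespace K15.CentUniq

open Groth.Agent

variable {S : Scheme.{u}} {G T C Z : Over S} [GrpObj G] [GrpObj T] [GrpObj C] [GrpObj Z]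

omit [GrpObj T] in
/-- Two centralizers of the same subgroup are isomorphic. -/
theorem exists_iso {i : T ⟶ G} {c : C ⟶ G} {z : Z ⟶ G} (hc : Red.IsCentralizerOf i c)
    (hz : Red.IsCentralizerOf i z) : ∃ e : C ≅ Z, e.hom ≫ z = c := by
  have hcm := hc.2.1
  have hzm := hz.2.1
  obtain ⟨a, ha⟩ : ∃ a : C ⟶ Z, a ≫ z = c :=
    (hz.2.2 C c).2 fun X' x t => (hc.2.2 C c).1 ⟨𝟙 C, Category.id_comp _⟩ X' x t
  obtain ⟨b, hb⟩ : ∃ b : Z ⟶ C, b ≫ c = z :=
    (hc.2.2 Z z).2 fun X' x t => (hz.2.2 Z z).1 ⟨𝟙 Z, Category.id_comp _⟩ X' x t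
  refine ⟨⟨a, b, ?_, ?_⟩, ha⟩
  · rw [← cancel_mono c, Category.assoc, hb, ha, Category.id_comp]
  · rw [← cancel_mono z, Category.assoc, ha, hb, Category.id_comp]

/-- Every centralizer of a torus in a smooth separated group is a smooth closed subgroup. -/
theorem smooth_and_closed [Smooth G.hom] [IsSeparated G.hom] {i : T ⟶ G} [IsMonHom i] (hT : Red.IsTorus T)
    {c : C ⟶ G} (hc : Red.IsCentralizerOf i c) :
    Smooth C.hom ∧ IsClosedImmersion c.left ∧ LocallyOfFinitePresentation c.left := by
  obtain ⟨Z, _, z, hz, hcl, hsm, hlfp⟩ := Sga3.H798.CentSep.exists_smooth_centralizer i hT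
  obtain ⟨e, he⟩ := exists_iso hc hz
  have h4 : IsIso e.hom.left := inferInstanceAs (IsIso ((Over.forget _).map e.hom))
  refine ⟨?_, ?_, ?_⟩
  · rw [← Over.w e.hom]
    infer_instance
  · rw [← he, Over.comp_left]
    infer_instance
  · rw [← he, Over.comp_left]
    infer_instance

end K15.CentUniq
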