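import Groth.Agent.SGA3x.K15.RedCentSec
import Groth.Agent.SGA3x.K10.MTLoc
import Groth.Agent.SGA3x.K5.Clopen
import Groth.Agent.Sga3C.GrpIrr
import Groth.Agent.Sga3.H798.SubTorus

/-!
# The reductive centre of the quotient by the reductive centre

`central_of_quotient`: `Z ⟶ G` central of multiplicative type, `q : G ⟶ G'` the quotient, `v : H ⟶ G'` central with `H` of
multiplicative type, `G` with connected fibres: then `H ×_{G'} G ⟶ G` is central.
`main`: the reductive centre of the quotient by the reductive centre is trivial, granting that commutative extensions of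
groups of multiplicative type are of multiplicative type (`ExtMT`, a case of S5431).
-/

set_option autoImplicit false
universe v u
open CategoryTheory MonoidalCategory CartesianMonoidalCategory MonObj GrpObj AlgebraicGeometry Limits

namespace K15.RedCentMain

open Groth.Agent Groth.Agent.Sga3B Groth.Agent.Sga3B.BcPts Groth.Agent.Sga3.H799.Ev K15.RedCent K15.RedCentSec
  Groth.Agent.RedSub.H650.QuotPts

lemma central_bc {S S' : Scheme.{u}} (f : S' ⟶ S) {G Z : Over S} [GrpObj G] {z : Z ⟶ G}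
    (hc : ∀ (X : Over S) (x : X ⟶ Z) (g : X ⟶ G), (x ≫ z) * g = g * (x ≫ z))
    (X : Over S') (x : X ⟶ Red.bc f Z) (g : X ⟶ Red.bc f G) :
    (x ≫ (Over.pullback f).map z) * g = g * (x ≫ (Over.pullback f).map z) := by
  obtain ⟨x, rfl⟩ := (bcEquiv f X Z).surjective x
  obtain ⟨g, rfl⟩ := (bcEquiv f X G).surjective g
  rw [← bcEquiv_comp, ← bcEquiv_mul, hc, bcEquiv_mul]

section

variable {S : Scheme.{u}} {G G' H Z E : Over S} [GrpObj G] [GrpObj G'] [GrpObj H] [GrpObj Z] [GrpObj E]

omit [GrpObj H] [GrpObj E] in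
/-- The pairing with the tautological section becomes trivial over a scheme mapping into the unit section. -/
theorem map_pairing_eq_one (z : Z ⟶ G) [IsMonHom z] [Mono z] (a : E ⟶ H) [Flat a.left] [Surjective a.left]
    (b : E ⟶ G) (β : Red.bc G.hom H ⟶ Red.bc G.hom Z)
    (hβ : (Over.pullback G.hom).map a ≫ β ≫ (Over.pullback G.hom).map z =
      (Over.pullback G.hom).map b * (toUnit (Red.bc G.hom E) ≫ taut G) * ((Over.pullback G.hom).map b)⁻¹ *
        (toUnit (Red.bc G.hom E) ≫ taut G)⁻¹)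
    {X : Scheme.{u}} (w : X ⟶ G.left) (hw : w ≫ G.hom ≫ (η[G] : 𝟙_ (Over S) ⟶ G).left = w) :
    (Over.pullback w).map β = (Over.pullback w).map 1 := by
  have h0 := map_taut_eq_one G E w hw
  have h1 : (Over.pullback w).map ((Over.pullback G.hom).map a ≫ β ≫ (Over.pullback G.hom).map z) = 1 := by
    rw [hβ, Functor.map_mul, Functor.map_mul, Functor.map_mul, Functor.map_inv', Functor.map_inv', h0,
      Functor.map_one, Functor.map_one]
    simp
  have h2 : (Over.pullback w).map ((Over.pullback G.hom).map a) ≫ (Over.pullback w).map β ≫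
      (Over.pullback w).map ((Over.pullback G.hom).map z) = 1 := by
    rw [← Functor.map_comp, ← Functor.map_comp]
    exact h1
  have h3 : Flat ((Over.pullback w).map ((Over.pullback G.hom).map a)).left :=
    MorphismProperty.of_isPullback (Parab.FibIsoSch.isPullback_map_left w _)
      (MorphismProperty.of_isPullback (Parab.FibIsoSch.isPullback_map_left G.hom a) inferInstance)
  have h4 : Surjective ((Over.pullback w).map ((Over.pullback G.hom).map a)).left :=
    MorphismProperty.of_isPullback (Parab.FibIsoSch.isPullback_map_left w _)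
      (MorphismProperty.of_isPullback (Parab.FibIsoSch.isPullback_map_left G.hom a) inferInstance)
  have h5 : Epi ((Over.pullback w).map ((Over.pullback G.hom).map a)) := Sga3.H784.FlatDesc.epi_of_cover _
  have h6 : Mono ((Over.pullback w).map ((Over.pullback G.hom).map z)) := inferInstance
  rw [← cancel_mono ((Over.pullback w).map ((Over.pullback G.hom).map z)),
    ← cancel_epi ((Over.pullback w).map ((Over.pullback G.hom).map a)), h2, Functor.map_one, MonObj.one_comp,
    MonObj.comp_one]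

/-- **Centrality of the preimage of a central subgroup of multiplicative type** of the quotient by a central subgroup
of multiplicative type, when the fibres are connected. -/
theorem central_of_quotient (hconn : ∀ s : S, _root_.IsConnected (G.hom.base ⁻¹' {s}))
    (z : Z ⟶ G) [IsMonHom z] [Mono z] (hZ : SGA3x.IsMultTypeFT Z)
    (hc : ∀ (X : Over S) (x : X ⟶ Z) (g : X ⟶ G), (x ≫ z) * g = g * (x ≫ z))
    (q : G ⟶ G') [IsMonHom q] (hq : RedSub.IsQuotient z q)
    (v : H ⟶ G') [IsMonHom v] (hH : SGA3x.IsMultTypeFT H)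
    (hv : ∀ (X : Over S) (x : X ⟶ H) (g : X ⟶ G'), (x ≫ v) * g = g * (x ≫ v))
    (a : E ⟶ H) (b : E ⟶ G) [IsMonHom a] [IsMonHom b] (h : IsPullback a b v q) :
    ∀ (X : Over S) (x : X ⟶ E) (g : X ⟶ G), (x ≫ b) * g = g * (x ≫ b) := by
  obtain ⟨k, hkm, hkmo, hk2, hk1, hka⟩ := isQuotient_fst z q hq v a b h
  have ha1 := hka.1
  have ha2 := hka.2.1
  have hZaff : IsAffineHom Z.hom := K10.MTLoc.isAffineHom hZ
  have hZaff' : IsAffineHom (Red.bc G.hom Z).hom := MorphismProperty.pullback_snd (P := @IsAffineHom) _ _ inferInstance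
  have hZlfp : LocallyOfFinitePresentation (Red.bc G.hom Z).hom :=
    K10.MTLoc.locallyOfFinitePresentation (K10.MTLoc.bc G.hom hZ)
  obtain ⟨β, hβm, hβ⟩ := exists_pairing ((Over.pullback G.hom).map z) ((Over.pullback G.hom).map q)
    (isQuotient_bc G.hom hq) (central_bc G.hom hc) ((Over.pullback G.hom).map v) (central_bc G.hom hv)
    ((Over.pullback G.hom).map a) ((Over.pullback G.hom).map b) (h.map (Over.pullback G.hom)) (taut G)
  have hone : IsMonHom (1 : Red.bc G.hom H ⟶ Red.bc G.hom Z) := by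
    apply Pts.isMonHom_of_points
    intro X x y
    rw [MonObj.comp_one, MonObj.comp_one, MonObj.comp_one, _root_.mul_one]
  obtain ⟨U, hUc, hU⟩ := SGA3x.K5.Clopen.exists_clopen_eq (K10.MTLoc.bc G.hom hH) (K10.MTLoc.bc G.hom hZ) β 1
  let e : S ⟶ G.left := (η[G] : 𝟙_ (Over S) ⟶ G).left
  have he : e ≫ G.hom = 𝟙 S := Over.w (η[G] : 𝟙_ (Over S) ⟶ G)
  have h1 : Set.range e ⊆ (U : Set G.left) := by
    refine (hU (Over.mk e)).1 (SGA3x.K5.Clopen.Eqz.of_map e (𝟙 _) ?_)
    rw [map_pairing_eq_one z a b β hβ e (by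
      change e ≫ G.hom ≫ e = e
      rw [← Category.assoc, he, Category.id_comp])]
    exact fun _ _ _ => rfl
  have hUtop : (U : Set G.left) = Set.univ := by
    rw [Set.eq_univ_iff_forall]
    intro x
    have h6 : IsClopen (U : Set G.left) := ⟨hUc, U.2⟩
    have h7 : (G.hom.base ⁻¹' {G.hom x}) ⊆ (U : Set G.left) := by
      refine (hconn (G.hom x)).isPreconnected.subset_isClopen h6 ⟨e (G.hom x), ?_, h1 ⟨_, rfl⟩⟩
      change G.hom (e (G.hom x)) = G.hom x
      rw [← Scheme.Hom.comp_apply, he]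
      rfl
    exact h7 rfl
  have hβ1 : β = 1 := by
    have h2 := (hU (𝟙_ (Over G.left))).2 (by rw [hUtop]; exact Set.subset_univ _) (Red.bc G.hom H) (toUnit _) (𝟙 _)
    rwa [Category.id_comp, Category.id_comp] at h2
  refine comm_of_taut b ?_
  rw [hβ1, MonObj.one_comp, MonObj.comp_one] at hβ
  rw [← mul_inv_eq_iff_eq_mul, ← mul_inv_eq_one]
  exact hβ.symm

end

/-- Groups of multiplicative type are commutative. -/
theorem mul_comm_of_isMultTypeFT {S : Scheme.{u}} {H : Over S} [GrpObj H] (hH : SGA3x.IsMultTypeFT H) (X : Over S)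
    (x y : X ⟶ H) : x * y = y * x := by
  obtain ⟨S', f, _, _, -, hf⟩ := hH
  refine K14.FpqcExt.eq_of_cover _ _ f fun s' => ?_
  obtain ⟨U, hU, M, _, hM, ⟨e⟩⟩ := hf s'
  refine ⟨U, hU, ?_⟩
  rw [Functor.map_mul, Functor.map_mul]
  obtain ⟨φ, h1, h2⟩ : ∃ φ : Red.bc (U.ι ≫ f) H ⟶ Red.DS U.toScheme M, Mono φ ∧ IsMonHom φ :=
    ⟨e.hom.hom.hom, inferInstanceAs (Mono (RedIso.und e).hom), e.hom.hom.isMonHom_hom⟩
  rw [← cancel_mono φ]
  have h3 := MonObj.mul_comp ((Over.pullback (U.ι ≫ f)).map x) ((Over.pullback (U.ι ≫ f)).map y) φ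
  have h4 := MonObj.mul_comp ((Over.pullback (U.ι ≫ f)).map y) ((Over.pullback (U.ι ≫ f)).map x) φ
  rw [h3, h4]
  apply (DSPts.dsEquiv ((Over.pullback (U.ι ≫ f)).obj X) M).symm.injective
  rw [map_mul, map_mul, _root_.mul_comm]

theorem isCommMonObj_of_points {S : Scheme.{u}} {G : Over S} [GrpObj G]
    (h : ∀ (X : Over S) (x y : X ⟶ G), x * y = y * x) : IsCommMonObj G := by
  constructor
  have key := h _ (fst G G) (snd G G)
  rw [Hom.mul_def, Hom.mul_def, lift_fst_snd, Category.id_comp] at key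
  have h3 : (β_ G G).hom = lift (snd G G) (fst G G) := by
    apply CartesianMonoidalCategory.hom_ext <;> simp
  rw [h3, ← key]

/-- Extensions of commutative groups of multiplicative type are of multiplicative type: the case needed of S5431. -/
def ExtMT : Prop :=
  ∀ (S : Scheme.{u}) (E H K : Over S) [GrpObj E] [GrpObj H] [GrpObj K]
    (p : E ⟶ K) [IsMonHom p] [Surjective p.left] [Flat p.left] [QuasiCompact p.left]
    (i : H ⟶ E) [IsMonHom i] (_ : AlgGrp.IsKernel i p)
    (_ : SGA3x.IsMultTypeFT H) (_ : SGA3x.IsMultTypeFT K) (_ : IsCommMonObj E),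
    SGA3x.IsMultTypeFT E

/-- **The quotient by the reductive centre has trivial reductive centre.** -/
theorem main (hext : ExtMT.{u}) (S : Scheme.{u}) (G : Over S) [GrpObj G]
    [Smooth G.hom] (hconn : ∀ s : S, _root_.IsConnected (G.hom.base ⁻¹' {s}))
    (Z : Over S) [GrpObj Z] (z : Z ⟶ G) (hZ : (IsMonHom z ∧ Mono z ∧ SGA3x.IsMultTypeFT Z ∧
      (∀ (X : Over S) (x : X ⟶ Z) (g : X ⟶ G), (x ≫ z) * g = g * (x ≫ z)) ∧
      ∀ (S' : Scheme.{u}) (f : S' ⟶ S) (H : Over S') [GrpObj H] (v : H ⟶ Red.bc f G) [IsMonHom v],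
        SGA3x.IsMultTypeFT H →
        (∀ (X : Over S') (x : X ⟶ H) (g : X ⟶ Red.bc f G), (x ≫ v) * g = g * (x ≫ v)) →
        ∃ w : H ⟶ Red.bc f Z, w ≫ (Over.pullback f).map z = v))
    (G' : Over S) [GrpObj G'] (q : G ⟶ G') [IsMonHom q] (hq : RedSub.IsQuotient z q)
    (S' : Scheme.{u}) (f : S' ⟶ S) (H : Over S') [GrpObj H] (v : H ⟶ Red.bc f G') [IsMonHom v]
    (hH : SGA3x.IsMultTypeFT H)
    (hv : ∀ (X : Over S') (x : X ⟶ H) (g : X ⟶ Red.bc f G'), (x ≫ v) * g = g * (x ≫ v)) :
    v = 1 := by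
  obtain ⟨hz1, hz2, hz3, hz4, hz5⟩ := hZ
  let i1 : GrpObj (Over.mk G.hom) := ‹GrpObj G›
  have hirr : GeometricallyIrreducible G.hom :=
    Sga3C.GrpIrr.geometricallyIrreducible_of_connected_fibres G.hom hconn
  have hirr' : GeometricallyIrreducible (Red.bc f G).hom :=
    inferInstanceAs (GeometricallyIrreducible (pullback.snd _ _))
  have hsm' : Smooth (Red.bc f G).hom := inferInstanceAs (Smooth (pullback.snd _ _))
  have hconn' : ∀ s : S', _root_.IsConnected ((Red.bc f G).hom.base ⁻¹' {s}) := fun s =>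
    ((Red.bc f G).hom.isIrreducible_preimage (Red.bc f G).hom.isOpenMap
      (isIrreducible_singleton (x := s))).isConnected
  obtain ⟨E, _, a, b, ha, hb, h⟩ := exists_fibreProd v ((Over.pullback f).map q)
  have hq' := isQuotient_bc f hq
  obtain ⟨k, hkm, hkmo, hk2, hk1, hka⟩ := isQuotient_fst ((Over.pullback f).map z) ((Over.pullback f).map q) hq' v a b h
  have ha1 := hka.1
  have ha2 := hka.2.1
  have hz3' := K10.MTLoc.bc f hz3
  have hZaff : IsAffineHom (Red.bc f Z).hom := K10.MTLoc.isAffineHom hz3'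
  have ha3 : IsAffineHom a.left := isAffineHom_left k a hka
  have hcen := central_of_quotient hconn' ((Over.pullback f).map z) hz3' (central_bc f hz4)
    ((Over.pullback f).map q) hq' v hH hv a b h
  have hE : IsCommMonObj E := isCommMonObj_of_points fun X x y => by
    apply h.hom_ext
    · rw [MonObj.mul_comp, MonObj.mul_comp, mul_comm_of_isMultTypeFT hH]
    · rw [MonObj.mul_comp, MonObj.mul_comp, hcen]
  have hker : AlgGrp.IsKernel k a := by
    have hw : k ≫ a = toUnit _ ≫ η[H] := hk1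
    refine IsPullback.of_isLimit' ⟨hw⟩ (PullbackCone.IsLimit.mk _
      (fun c => ((ptQuot_of_isPullback hka.2.2.2 _ (1 : c.pt ⟶ E) c.fst).1 (by
        rw [MonObj.one_comp, c.condition, toUnit_unique c.snd (toUnit _)]
        rfl)).choose)
      (fun c => ?_) (fun c => toUnit_unique _ _) (fun c m hm1 hm2 => ?_))
    · have h1 := ((ptQuot_of_isPullback hka.2.2.2 _ (1 : c.pt ⟶ E) c.fst).1 (by
        rw [MonObj.one_comp, c.condition, toUnit_unique c.snd (toUnit _)]
        rfl)).choose_spec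
      rw [_root_.one_mul] at h1
      exact h1.symm
    · have h1 := ((ptQuot_of_isPullback hka.2.2.2 _ (1 : c.pt ⟶ E) c.fst).1 (by
        rw [MonObj.one_comp, c.condition, toUnit_unique c.snd (toUnit _)]
        rfl)).choose_spec
      rw [_root_.one_mul] at h1
      rw [← cancel_mono k, hm1]
      exact h1
  have hEMT := hext S' E (Red.bc f Z) H a k hker hz3' hH hE
  obtain ⟨w, hw⟩ := hz5 S' f E b hEMT hcen
  have hepi : Epi a := Sga3.H784.FlatDesc.epi_of_cover a
  have h6 : b ≫ (Over.pullback f).map q = 1 := by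
    have h7 := mul_comp hq' (1 : E ⟶ Red.bc f G) w
    rw [_root_.one_mul, hw, MonObj.one_comp] at h7
    exact h7
  rw [← cancel_epi a, h.w, h6, MonObj.comp_one]

end K15.RedCentMain
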