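import Groth.Agent.SGA3x.K15.CentMT
import Groth.Agent.Sga3.H832.SelfCent
import Groth.Agent.Sga3.H766.CartanCent
import Groth.Agent.Sga3.H825.SelfCent

/-!
# The centre of a smooth affine group of unipotent rank zero is of multiplicative type
-/

set_option autoImplicit false
universe u
open CategoryTheory MonoidalCategory CartesianMonoidalCategory MonObj GrpObj AlgebraicGeometry Limits

namespace K15.CentGlob

open Groth.Agent Groth.Agent.Sga3B

variable {S S' : Scheme.{u}}

/-- Base change of the centre. -/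
theorem isCentre_bc (f : S' ⟶ S) {G Z : Over S} [GrpObj G] [GrpObj Z] {j : Z ⟶ G} (hj : Red.IsCentre j) :
    Red.IsCentre ((Over.pullback f).map j) := by
  have h := SplitBc264.isCentralizerOf_bc f hj
  rw [CategoryTheory.Functor.map_id] at h
  exact h

/-- Maximal tori are self-centralizing. -/
theorem isCentralizerOf_self {G : Over S} [GrpObj G] [Smooth G.hom] [IsSeparated G.hom]
    (hu : SGA3x.UnipotentRankZero G) (f : S' ⟶ S) {T : Over S'} [GrpObj T] (i : T ⟶ Red.bc f G)
    (hi : Red.IsMaximalTorus i) : Red.IsCentralizerOf i i := by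
  have h1 : IsMonHom i := hi.1
  have h2 : Mono i := hi.2.1
  have h3 : SGA3x.IsCartan i := by
    refine ⟨h1, h2, TorusAlgClosed.smooth_of_isTorus hi.2.2.1, fun s => ⟨inferInstance, inferInstance,
      _, inferInstance, _, AlgBc.isMaximalTorus_bc (Red.geomPt s) hi, ?_⟩⟩
    exact Sga3.H825.SelfCent.isCentralizerOf_of_selfC (TorusBc.isTorus_bc _ hi.2.2.1)
      (Sga3.H832.SelfCent.selfC_geomFibre f hu hi s)
  have h4 : Smooth (Red.bc f G).hom := inferInstanceAs (Smooth (pullback.snd G.hom f))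
  have h5 : IsSeparated (Red.bc f G).hom := inferInstanceAs (IsSeparated (pullback.snd G.hom f))
  have h6 := Sga3.H766.CartanCent.isCentralizerOf i h3 (𝟙 T) (by rw [Category.id_comp]; exact hi)
  rwa [Category.id_comp] at h6

/-- **The centre of a smooth affine group of unipotent rank zero is of multiplicative type.** -/
theorem isMultTypeFT_centre {G : Over S} [GrpObj G] [Smooth G.hom] [IsAffineHom G.hom]
    [GeometricallyIrreducible G.hom] (hu : SGA3x.UnipotentRankZero G) (ht : SGA3x.HasMaxTorusEtaleLocally G)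
    {Z : Over S} [GrpObj Z] (j : Z ⟶ G) (hj : Red.IsCentre j) : SGA3x.IsMultTypeFT Z := by
  obtain ⟨S', f, hf, hfs, T, _, i, hi⟩ := ht
  refine K10.MTLoc.of_etale fun s => ?_
  obtain ⟨s', hs'⟩ := f.surjective s
  have hT : SGA3x.IsMultTypeFT T := by
    obtain ⟨S', f, h1, h2, h3, h4⟩ := hi.2.2.1
    refine ⟨S', f, h1, h2, h3, fun s' => ?_⟩
    obtain ⟨U, hU, r, e⟩ := h4 s'
    exact ⟨U, hU, _, inferInstance, AddGroup.fg_iff_addMonoid_fg.2 inferInstance, e⟩
  obtain ⟨B, _, v, M, _, hv, ⟨b, hb⟩, hM, ⟨e⟩⟩ := K10.MTLoc.exists_etale_split hT s'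
  refine ⟨Spec (CommRingCat.of B), v ≫ f, inferInstance, ⟨b, by rw [Scheme.Hom.comp_apply, hb, hs']⟩, ?_⟩
  refine K10.MTLoc.of_iso (BcIso.bcCompIso v f Z).symm ?_
  have h1 := isCentre_bc v (isCentre_bc f hj)
  have h2 := SplitBc264.isCentralizerOf_bc v (isCentralizerOf_self hu f i hi)
  have hi1 : IsMonHom ((Over.pullback v).map i) := h2.1
  have hi2 : Mono ((Over.pullback v).map i) := h2.2.1
  have ha : Smooth (Red.bc v (Red.bc f G)).hom := inferInstanceAs (Smooth (pullback.snd (pullback.snd G.hom f) v))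
  have hb' : IsAffineHom (pullback.snd G.hom f) := MorphismProperty.pullback_snd _ _ inferInstance
  have hb : IsAffineHom (Red.bc v (Red.bc f G)).hom :=
    MorphismProperty.pullback_snd (P := @IsAffineHom) (pullback.snd G.hom f) v hb'
  have hc : GeometricallyIrreducible (Red.bc v (Red.bc f G)).hom :=
    inferInstanceAs (GeometricallyIrreducible (pullback.snd (pullback.snd G.hom f) v))
  obtain ⟨w, hw⟩ := (h2.2.2 _ ((Over.pullback v).map ((Over.pullback f).map j))).2 (by
    intro X' x h
    have h3 := (h1.2.2 _ ((Over.pullback v).map ((Over.pullback f).map j))).1 ⟨𝟙 _, Category.id_comp _⟩ X' x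
      (h ≫ (Over.pullback v).map i)
    rwa [Category.comp_id] at h3)
  let e' : Red.bc v T ≅ Red.DS (Spec (CommRingCat.of B)) M := (Grp.forget _).mapIso e
  have he1 : IsMonHom e'.hom := e.hom.hom.isMonHom_hom
  have he2 : IsMonHom e'.inv := e.inv.hom.isMonHom_hom
  exact CentMT.main_affine hM (e'.inv ≫ (Over.pullback v).map i) _ h1 (w ≫ e'.hom) (by
    rw [Category.assoc, e'.hom_inv_id_assoc, hw])

/-- The universal property of the reductive centre. -/
theorem exists_lift_centre {G Z : Over S} [GrpObj G] [GrpObj Z] {j : Z ⟶ G} (hj : Red.IsCentre j) (f : S' ⟶ S)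
    {H : Over S'} [GrpObj H] (v : H ⟶ Red.bc f G)
    (hv : ∀ (X : Over S') (x : X ⟶ H) (g : X ⟶ Red.bc f G), (x ≫ v) * g = g * (x ≫ v)) :
    ∃ w : H ⟶ Red.bc f Z, w ≫ (Over.pullback f).map j = v :=
  ((isCentre_bc f hj).2.2 H v).2 fun X' x h => by
    rw [Category.comp_id]
    exact hv X' x h

end K15.CentGlob
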