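import Groth.Agent.SGA3x.K15.CentSplit

/-!
# The centre is of multiplicative type if it lies in a diagonalizable subgroup

* `exists_iso_of_mono`: two subgroups with the same points are isomorphic;
* `main_split`: `G` smooth affine over `Spec R` with geometrically irreducible fibres, `z : D(N) ⟶ G` a monomorphic
  homomorphism, `N` finitely generated; if the centre of `G` lies in `D(N)` it is of multiplicative type.
-/

set_option autoImplicit false
universe u
open CategoryTheory MonoidalCategory CartesianMonoidalCategory MonObj GrpObj AlgebraicGeometry Limits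

namespace K15.CentMT

open Groth.Agent Groth.Agent.Sga3B Groth.Agent.Sga3B.FreeBC Groth.Agent.Sga3B.DSPts Groth.Agent.Sga3B.AdGrad
  Groth.Agent.Sga3B.AdPts K15.ConjCoact K15.CentSplit

/-- Two subgroups each of which factors through the other. -/
theorem exists_iso_of_mono {S : Scheme.{u}} {A B C : Over S} [GrpObj A] [GrpObj B] [GrpObj C] (a : A ⟶ C) (b : B ⟶ C)
    [IsMonHom a] [IsMonHom b] [Mono a] [Mono b] (f : A ⟶ B) (hf : f ≫ b = a) (g : B ⟶ A) (hg : g ≫ a = b) :
    ∃ e : A ≅ B, IsMonHom e.hom := by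
  refine ⟨⟨f, g, ?_, ?_⟩, ?_⟩
  · rw [← cancel_mono a, Category.assoc, hg, hf, Category.id_comp]
  · rw [← cancel_mono b, Category.assoc, hf, hg, Category.id_comp]
  · have : IsMonHom f := by
      refine ⟨?_, ?_⟩
      · rw [← cancel_mono b, Category.assoc, hf, IsMonHom.one_hom, IsMonHom.one_hom]
      · rw [← cancel_mono b, Category.assoc, hf, IsMonHom.mul_hom, Category.assoc, IsMonHom.mul_hom,
          ← Category.assoc, MonoidalCategory.tensorHom_comp_tensorHom, hf]
    exact this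

/-- A point of `D(N)` killed by a generating set of `N'` comes from `D(N / N')`. -/
theorem exists_lift_of_dsChar {S : Scheme.{u}} {N : Type} [AddCommGroup N] {X : Over S} (t : X ⟶ Red.DS S N)
    (N' : AddSubgroup N) (I : Set N) (hI : AddSubgroup.closure I = N')
    (h : ∀ n ∈ I, dsChar t (Multiplicative.ofAdd n) = 1) :
    ∃ t₀ : X ⟶ Red.DS S (N ⧸ N'), t₀ ≫ Red.DSmap S (QuotientAddGroup.mk' N') = t := by
  let χ : N →+ Additive Γ(X.left, ⊤) := MonoidHom.toAdditiveRight (dsChar t)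
  have hχ : N' ≤ χ.ker := by
    rw [← hI, AddSubgroup.closure_le]
    intro n hn
    exact h n hn
  let χ' : Multiplicative (N ⧸ N') →* Γ(X.left, ⊤) := MonoidHom.toAdditiveRight.symm (QuotientAddGroup.lift _ χ hχ)
  refine ⟨dsEquiv X _ χ', ?_⟩
  rw [dsEquiv_DSmap]
  have h2 : χ'.comp (AddMonoidHom.toMultiplicative (QuotientAddGroup.mk' N')) = dsChar t := by
    refine MonoidHom.ext fun m => ?_
    rfl
  rw [h2, dsEquiv_dsChar]

/-- finite generation of the subgroup generated by the weights -/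
theorem exists_finset {N : Type} [AddCommGroup N] (hN : AddGroup.FG N) (W : Set N) :
    ∃ I : Finset N, (I : Set N) ⊆ W ∧ AddSubgroup.closure (I : Set N) = AddSubgroup.closure W := by
  have h0 : Module.Finite ℤ N := Module.Finite.iff_addGroup_fg.mpr hN
  have h1 : (Submodule.span ℤ W).FG := IsNoetherian.noetherian _
  obtain ⟨I, hI, hI'⟩ := (Submodule.fg_span_iff_fg_span_finset_subset W).mp h1
  refine ⟨I, hI, le_antisymm (AddSubgroup.closure_mono hI) ?_⟩
  have h2 : AddSubgroup.closure W = (Submodule.span ℤ W).toAddSubgroup := (Submodule.span_int_eq_addSubgroupClosure W) ▸ rfl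
  have h3 : AddSubgroup.closure (I : Set N) = (Submodule.span ℤ (I : Set N)).toAddSubgroup :=
    (Submodule.span_int_eq_addSubgroupClosure (I : Set N)) ▸ rfl
  rw [h2, h3, hI']

section main

variable {R A : Type u} [CommRing R] [CommRing A] [Algebra R A] {N : Type} [AddCommGroup N]

variable [GrpObj (DE R A)] (z : Red.DS (Spec (CommRingCat.of R)) N ⟶ DE R A) [IsMonHom z]

/-- Finitely many weights at `s` are simultaneously trivial on central points near `s`. -/
theorem exists_nhd_le_finset [Smooth (DE R A).hom] (s : Spec (CommRingCat.of R)) (I : Finset N)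
    (hI : (I : Set N) ⊆ wts z s) :
    ∃ V : (Spec (CommRingCat.of R)).Opens, s ∈ V ∧ ∀ (X : Over (Spec (CommRingCat.of R))),
      Set.range X.hom ⊆ (V : Set (Spec (CommRingCat.of R))) →
      ∀ (t : X ⟶ Red.DS (Spec (CommRingCat.of R)) N),
        (∀ (Y : Over (Spec (CommRingCat.of R))) (y : Y ⟶ X) (g : Y ⟶ DE R A), cj z (y ≫ t) g = g) →
        ∀ n ∈ I, dsChar t (Multiplicative.ofAdd n) = 1 := by
  classical
  induction I using Finset.induction_on with
  | empty => exact ⟨⊤, trivial, fun X _ t _ n hn => absurd hn (Finset.notMem_empty n)⟩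
  | insert m I hm ih =>
    obtain ⟨V₁, hs₁, h₁⟩ := ih (fun n hn => hI (Finset.mem_coe.2 (Finset.mem_insert_of_mem hn)))
    obtain ⟨V₂, hs₂, h₂⟩ := exists_nhd_le z s m (hI (Finset.mem_coe.2 (Finset.mem_insert_self m I)))
    refine ⟨V₁ ⊓ V₂, ⟨hs₁, hs₂⟩, fun X hX t ht n hn => ?_⟩
    rcases Finset.mem_insert.1 hn with rfl | hn
    · exact h₂ X (fun x hx => (hX hx).2) t ht
    · exact h₁ X (fun x hx => (hX hx).1) t ht n hn

/-- **The centre is of multiplicative type if it lies in a diagonalizable subgroup.** -/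
theorem main_split [Smooth (DE R A).hom] [GeometricallyIrreducible (DE R A).hom] [Mono z] (hN : AddGroup.FG N)
    {Z : Over (Spec (CommRingCat.of R))} [GrpObj Z] (j : Z ⟶ DE R A) (hj : Red.IsCentre j)
    (w : Z ⟶ Red.DS (Spec (CommRingCat.of R)) N) (hw : w ≫ z = j) : SGA3x.IsMultTypeFT Z := by
  have hj1 := hj.1
  have hj2 := hj.2.1
  have hw1 : IsMonHom w := by
    refine ⟨?_, ?_⟩
    · rw [← cancel_mono z, Category.assoc, hw, IsMonHom.one_hom, IsMonHom.one_hom]
    · rw [← cancel_mono z, Category.assoc, hw, IsMonHom.mul_hom, Category.assoc, IsMonHom.mul_hom,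
        ← Category.assoc, MonoidalCategory.tensorHom_comp_tensorHom, hw]
  have hw2 : Mono w := by
    have : Mono (w ≫ z) := by rw [hw]; exact hj2
    exact mono_of_mono w z
  refine K10.MTLoc.of_etale fun s => ?_
  obtain ⟨I, hI, hIc⟩ := exists_finset hN (wts z s)
  let N' := AddSubgroup.closure (wts z s)
  obtain ⟨V₁, hs₁, h₁⟩ := exists_nhd_central z s hN N' AddSubgroup.subset_closure
  obtain ⟨V₂, hs₂, h₂⟩ := exists_nhd_le_finset z s I hI
  let V : (Spec (CommRingCat.of R)).Opens := V₁ ⊓ V₂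
  have hk : Mono (Red.DSmap (Spec (CommRingCat.of R)) (QuotientAddGroup.mk' N')) :=
    AdCentre.mono_DSmap _ (QuotientAddGroup.mk'_surjective _)
  have hrange : ∀ Y : Over V.toScheme, Set.range ((Over.map V.ι).obj Y).hom ⊆ (V : Set (Spec (CommRingCat.of R))) := by
    rintro Y _ ⟨y, rfl⟩
    exact (Y.hom y).2
  -- the two factorizations
  obtain ⟨f, hf⟩ : ∃ f : Red.bc V.ι Z ⟶ Red.bc V.ι (Red.DS (Spec (CommRingCat.of R)) (N ⧸ N')),
      f ≫ (Over.pullback V.ι).map (Red.DSmap _ (QuotientAddGroup.mk' N')) = (Over.pullback V.ι).map w := by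
    let x₀ := (BcPts.bcEquiv V.ι (Red.bc V.ι Z) Z).symm (𝟙 _)
    have hx₀ : ∀ (Y : Over (Spec (CommRingCat.of R))) (y : Y ⟶ (Over.map V.ι).obj (Red.bc V.ι Z)) (g : Y ⟶ DE R A),
        cj z (y ≫ (x₀ ≫ w)) g = g := by
      intro Y y g
      have h3 := (hj.2.2 _ (x₀ ≫ w ≫ z)).1 ⟨x₀, by rw [hw]⟩ Y y g
      rw [Category.comp_id] at h3
      rw [cj, mul_inv_eq_iff_eq_mul]
      simpa only [Category.assoc] using h3
    obtain ⟨t₀, ht₀⟩ := exists_lift_of_dsChar (x₀ ≫ w) N' I hIc
      (h₂ _ (fun x hx => (hrange _ hx).2) (x₀ ≫ w) hx₀)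
    refine ⟨BcPts.bcEquiv V.ι _ _ t₀, ?_⟩
    rw [← BcPts.bcEquiv_comp, ht₀, BcPts.bcEquiv_comp, Equiv.apply_symm_apply, Category.id_comp]
  obtain ⟨g, hg⟩ : ∃ g : Red.bc V.ι (Red.DS (Spec (CommRingCat.of R)) (N ⧸ N')) ⟶ Red.bc V.ι Z,
      g ≫ (Over.pullback V.ι).map w = (Over.pullback V.ι).map (Red.DSmap _ (QuotientAddGroup.mk' N')) := by
    let x₁ := (BcPts.bcEquiv V.ι (Red.bc V.ι (Red.DS (Spec (CommRingCat.of R)) (N ⧸ N'))) _).symm (𝟙 _)
    obtain ⟨y, hy⟩ := (hj.2.2 _ (x₁ ≫ Red.DSmap _ (QuotientAddGroup.mk' N') ≫ z)).2 (by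
      intro Y y g
      have h3 := h₁ Y (by
        rintro _ ⟨v, rfl⟩
        have h4 : Y.hom v = ((Over.map V.ι).obj (Red.bc V.ι (Red.DS (Spec (CommRingCat.of R)) (N ⧸ N')))).hom (y.left v) := by
          rw [← Scheme.Hom.comp_apply, Over.w]
        rw [h4]
        exact (hrange _ ⟨_, rfl⟩).1) (y ≫ x₁) g
      rw [cj, mul_inv_eq_iff_eq_mul] at h3
      rw [Category.comp_id]
      simpa only [Category.assoc] using h3)
    have hy' : y ≫ w = x₁ ≫ Red.DSmap _ (QuotientAddGroup.mk' N') := by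
      rw [← cancel_mono z, Category.assoc, hw, hy, Category.assoc]
    refine ⟨BcPts.bcEquiv V.ι _ _ y, ?_⟩
    rw [← BcPts.bcEquiv_comp, hy', BcPts.bcEquiv_comp, Equiv.apply_symm_apply, Category.id_comp]
  obtain ⟨e, he⟩ := exists_iso_of_mono _ _ f hf g hg
  have he' : IsMonHom e.symm.hom := inferInstanceAs (IsMonHom e.inv)
  have hfg : AddGroup.FG (N ⧸ N') := inferInstance
  exact ⟨V.toScheme, V.ι, inferInstance, ⟨⟨s, hs₁, hs₂⟩, rfl⟩,
    K10.MTLoc.of_iso' e.symm (K10.MTLoc.bc V.ι (K10.MTLoc.of_split hfg ⟨Iso.refl _⟩))⟩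

end main

/-- **The centre is of multiplicative type if it lies in a diagonalizable subgroup**, affine case. -/
theorem main_affine {R : Type u} [CommRing R] {N : Type} [AddCommGroup N] (hN : AddGroup.FG N)
    {G Z : Over (Spec (CommRingCat.of R))} [GrpObj G] [GrpObj Z] [Smooth G.hom] [IsAffineHom G.hom]
    [GeometricallyIrreducible G.hom] (z : Red.DS (Spec (CommRingCat.of R)) N ⟶ G) [IsMonHom z] [Mono z]
    (j : Z ⟶ G) (hj : Red.IsCentre j)
    (w : Z ⟶ Red.DS (Spec (CommRingCat.of R)) N) (hw : w ≫ z = j) : SGA3x.IsMultTypeFT Z := by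
  obtain ⟨A, _, _, ⟨e⟩⟩ := AdCentre.exists_specIso G inferInstance
  letI : GrpObj (DE R A) := GrpObj.ofIso e
  have he : IsMonHom e.hom := by
    refine ⟨?_, ?_⟩
    · rfl
    · change _ = (e.hom ⊗ₘ e.hom) ≫ (e.inv ⊗ₘ e.inv) ≫ μ[G] ≫ e.hom
      rw [← Category.assoc, MonoidalCategory.tensorHom_comp_tensorHom, e.hom_inv_id]
      simp
  have h1 : Smooth (DE R A).hom := by
    rw [← Over.w e.inv]
    infer_instance
  have h2 : GeometricallyIrreducible (DE R A).hom := by
    rw [← Over.w e.inv]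
    exact (MorphismProperty.cancel_left_of_respectsIso @GeometricallyIrreducible e.inv.left G.hom).2 inferInstance
  have h3 : Red.IsCentre (j ≫ e.hom) := by
    have hj1 := hj.1
    have hj2 := hj.2.1
    refine ⟨inferInstance, inferInstance, fun X g => ?_⟩
    have h4 := hj.2.2 X (g ≫ e.inv)
    constructor
    · rintro ⟨x, rfl⟩ X' y h
      have h5 := h4.1 ⟨x, by simp⟩ X' y (h ≫ e.inv)
      have h6 := congrArg (· ≫ e.hom) h5
      simp only [MonObj.mul_comp, Category.assoc, Iso.inv_hom_id, Category.comp_id] at h6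
      rw [Category.comp_id]
      exact h6
    · intro h5
      obtain ⟨x, hx⟩ := h4.2 (by
        intro X' y h
        have h6 := congrArg (· ≫ e.inv) (h5 X' y (h ≫ e.hom))
        have : IsMonHom e.inv := inferInstance
        simp only [MonObj.mul_comp, Category.assoc, Iso.hom_inv_id, Category.comp_id] at h6
        rw [Category.comp_id]
        exact h6)
      exact ⟨x, by rw [← Category.assoc, hx, Category.assoc, e.inv_hom_id, Category.comp_id]⟩
  exact main_split (z ≫ e.hom) hN (j ≫ e.hom) h3 w (by rw [← Category.assoc, hw])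

end K15.CentMT
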