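import Groth.Agent.SGA3x.K15.NilpGrp
import Groth.Agent.SGA3x.K15.CentUniq
import Groth.Agent.Sga3.H799.FibCrit
import Groth.Agent.Sga3.H819.Descend
import Groth.Agent.Sga3.H819.LocalTorus
import Groth.Agent.Sga3B.SplitBc264

/-!
# Families of connected nilpotent groups

* `NilpFib H`: over field-valued points above all points of the base the fibre is connected and nilpotent;
* `central`: the tori of `H` are central;
* `exists_maximalTorus_of_etale`: the maximal torus descends from étale local data.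
-/

set_option autoImplicit false
universe u
open CategoryTheory MonoidalCategory CartesianMonoidalCategory MonObj GrpObj AlgebraicGeometry Limits

namespace K15.NilpFam

open Groth.Agent Groth.Agent.Sga3B Groth.Agent.Sga3B.RedIso Groth.Agent.Sga3B.MT Groth.Agent.Sga3B.Parab
  Groth.Agent.Sga3.H798

/-- Over a geometric point above each point of the base the fibre is connected and nilpotent. -/
def NilpFib {V : Scheme.{u}} (H : Over V) [GrpObj H] : Prop :=
  ∀ y : V, ∃ (K : Type u) (_ : Field K) (_ : IsAlgClosed K) (x : Spec (CommRingCat.of K) ⟶ V),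
    x (IsLocalRing.closedPoint K) = y ∧ ConnectedSpace ↥(Red.bc x H).left ∧
      Group.IsNilpotent (𝟙_ (Over (Spec (CommRingCat.of K))) ⟶ Red.bc x H)

lemma isNilpotent_of_iso {S : Scheme.{u}} {G H : Over S} [GrpObj G] [GrpObj H] (e : Grp.mk G ≅ Grp.mk H) (X : Over S)
    (h : Group.IsNilpotent (X ⟶ G)) : Group.IsNilpotent (X ⟶ H) := by
  have := h
  refine Group.nilpotent_of_surjective (Groth.Agent.Sga3.H784.Commute.ptHom X (und e).hom) fun x => ⟨x ≫ (und e).inv, ?_⟩
  change (x ≫ (und e).inv) ≫ (und e).hom = x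
  rw [Category.assoc, Iso.inv_hom_id, Category.comp_id]

lemma connectedSpace_of_iso {S : Scheme.{u}} {G H : Over S} [GrpObj G] [GrpObj H] (e : Grp.mk G ≅ Grp.mk H)
    (h : ConnectedSpace G.left) : ConnectedSpace H.left :=
  RedIso.connectedSpace_of_iso (und e).hom.left h

/-- The condition is stable under étale base change. -/
theorem nilpFib_bc {S V : Scheme.{u}} (v : V ⟶ S) [ResAlg.AlgRes v] (G : Over S) [GrpObj G]
    (hconn : ∀ s : S, ConnectedSpace ↥(Red.geomFibre s G).left)
    (hnil : ∀ s : S, Group.IsNilpotent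
      (𝟙_ (Over (Spec (CommRingCat.of (AlgebraicClosure (S.residueField s))))) ⟶ Red.geomFibre s G)) :
    NilpFib (Red.bc v G) := by
  intro y
  obtain ⟨θ, hθ, hh⟩ := ResAlg.exists_iso_geomPt v y
  let x : Spec (CommRingCat.of (AlgebraicClosure (S.residueField (v y)))) ⟶ V := inv θ ≫ Red.geomPt y
  have hx : x ≫ v = Red.geomPt (v y) := by
    rw [Category.assoc, ← hh, IsIso.inv_hom_id_assoc]
  let e : Grp.mk (Red.geomFibre (v y) G) ≅ Grp.mk (Red.bc x (Red.bc v G)) :=
    BcIso.bcCongrIso hx.symm G ≪≫ BcIso.bcCompIso x v G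
  refine ⟨_, inferInstance, inferInstance, x, ?_, connectedSpace_of_iso e (hconn _), isNilpotent_of_iso e _ (hnil _)⟩
  change (inv θ ≫ (_ ≫ V.fromSpecResidueField y)) _ = y
  rw [Scheme.Hom.comp_apply, Scheme.Hom.comp_apply]
  exact Scheme.fromSpecResidueField_apply _ _

/-- **Tori in families of connected nilpotent groups are central.** -/
theorem central {V : Scheme.{u}} {H T : Over V} [GrpObj H] [GrpObj T] [Smooth H.hom] [IsSeparated H.hom]
    [QuasiCompact H.hom] (hH : NilpFib H) (t : T ⟶ H) [IsMonHom t] [Mono t] (hT : Red.IsTorus T)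
    (X : Over V) (a : X ⟶ T) (g : X ⟶ H) : (a ≫ t) * g = g * (a ≫ t) := by
  obtain ⟨C, _, c, hC, hcl, hsm, hlfp⟩ := Sga3.H798.CentSep.exists_smooth_centralizer t hT
  have hcm := hC.2.1
  have hiso : IsIso c := by
    refine Sga3.H799.FibCrit.isIso_of_points c fun y => ?_
    obtain ⟨K, _, _, x, hx, hconn, hnil⟩ := hH y
    refine ⟨K, inferInstance, x, hx, ?_⟩
    have h1 := SplitBc264.isCentralizerOf_bc x hC
    have hs : Smooth (Red.bc x H).hom := inferInstanceAs (Smooth (Limits.pullback.snd _ _))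
    have hq : QuasiCompact (Red.bc x H).hom := inferInstanceAs (QuasiCompact (Limits.pullback.snd _ _))
    obtain ⟨σ, hσ⟩ := (h1.2.2 _ (𝟙 (Red.bc x H))).2 fun X' g h => by
      have := K15.NilpGrp.central_of_nilpotent hnil ((Over.pullback x).map t) (TorusBc.isTorus_bc x hT) h g
      rw [Category.comp_id]
      exact this.symm
    have : IsSplitEpi ((Over.pullback x).map c) := IsSplitEpi.mk' ⟨σ, hσ⟩
    have := h1.2.1
    exact isIso_of_mono_of_isSplitEpi _
  have h1 := (hC.2.2 X g).1 ⟨g ≫ inv c, by rw [Category.assoc, IsIso.inv_hom_id, Category.comp_id]⟩ X (𝟙 X) a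
  rw [Category.id_comp] at h1
  exact h1.symm

section Descent

variable {S : Scheme.{u}} {G : Over S} [GrpObj G]

theorem compat [Smooth G.hom] [IsAffineHom G.hom]
    (hconn : ∀ s : S, ConnectedSpace ↥(Red.geomFibre s G).left)
    (hnil : ∀ s : S, Group.IsNilpotent
      (𝟙_ (Over (Spec (CommRingCat.of (AlgebraicClosure (S.residueField s))))) ⟶ Red.geomFibre s G))
    {J : Type u} {S' : J → Scheme.{u}} {f : ∀ j, S' j ⟶ S} (hf : ∀ j, Etale (f j)) {T : ∀ j, Over (S' j)}
    [∀ j, GrpObj (T j)] (t : ∀ j, T j ⟶ Red.bc (f j) G) (ht : ∀ j, Red.IsMaximalTorus (t j)) : Compat t := by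
  intro i j X a b g H
  have hi := hf i
  have hj := hf j
  have hab : a.left ≫ f i = b.left ≫ f j := (Over.w a).trans (Over.w b).symm
  obtain ⟨T₁, _, t₁, ht₁, hm₁⟩ := Sga3.H819.Descend.exists_bcSub (t i) (ht i) (pullback.fst (f i) (f j))
    (pullback.fst (f i) (f j) ≫ f i) rfl
  obtain ⟨T₂, _, t₂, ht₂, hm₂⟩ := Sga3.H819.Descend.exists_bcSub (t j) (ht j) (pullback.snd (f i) (f j))
    (pullback.fst (f i) (f j) ≫ f i) pullback.condition.symm
  obtain ⟨k, hk⟩ : ∃ k : T₁ ⟶ T₂, k ≫ t₂ = t₁ := by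
    have haf : IsAffineHom (Red.bc (pullback.fst (f i) (f j) ≫ f i) G).hom :=
      MorphismProperty.pullback_snd (P := @IsAffineHom) _ _ inferInstance
    have hsm : Smooth (Red.bc (pullback.fst (f i) (f j) ≫ f i) G).hom :=
      inferInstanceAs (Smooth (Limits.pullback.snd _ _))
    have h1 := ht₁.1
    have h2 := ht₁.2.1
    have h3 := ht₂.1
    have h4 := ht₂.2.1
    exact Sga3.H819.Unique.exists_factor_of_comm t₂ ht₂ t₁ ht₁.2.2.1 fun X t r =>
      central (nilpFib_bc _ G hconn hnil) t₂ ht₂.2.2.1 X t (r ≫ t₁)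
  let c : X ⟶ Over.mk (pullback.fst (f i) (f j) ≫ f i) := Over.homMk (pullback.lift a.left b.left hab) (by
    change pullback.lift a.left b.left hab ≫ pullback.fst (f i) (f j) ≫ f i = X.hom
    rw [pullback.lift_fst_assoc]
    exact Over.w a)
  rw [← hm₁ X c a (pullback.lift_fst _ _ _).symm] at H
  rw [← hm₂ X c b (pullback.lift_snd _ _ _).symm]
  obtain ⟨x, hx⟩ := (memAt_iff _ _ _).1 H
  exact (memAt_iff _ _ _).2 ⟨x ≫ k, by rw [Category.assoc, hk, hx]⟩

/-- **Existence of the maximal torus of a family of connected nilpotent groups, from étale local existence.** -/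
theorem exists_maximalTorus_of_etale (G : Over S) [GrpObj G] [Smooth G.hom] [IsAffineHom G.hom]
    (hconn : ∀ s : S, ConnectedSpace ↥(Red.geomFibre s G).left)
    (hnil : ∀ s : S, Group.IsNilpotent
      (𝟙_ (Over (Spec (CommRingCat.of (AlgebraicClosure (S.residueField s))))) ⟶ Red.geomFibre s G))
    (h : ∀ s : S, ∃ (V : Scheme.{u}) (v : V ⟶ S), Etale v ∧ s ∈ Set.range v ∧
      ∃ (T : Over V) (_ : GrpObj T) (i : T ⟶ Red.bc v G), Red.IsMaximalTorus i) :
    ∃ (T : Over S) (_ : GrpObj T) (i : T ⟶ G), Red.IsMaximalTorus i := by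
  choose V v hv hs T iT t ht using h
  have hcl : ∀ s, IsClosedImmersion (t s).left := fun s => by
    have h1 := (ht s).1
    have h2 := (ht s).2.1
    have haf : IsAffineHom (Red.bc (v s) G).hom := MorphismProperty.pullback_snd (P := @IsAffineHom) _ _ inferInstance
    exact TorClosed636.isClosedImmersion_of_isTorus (t s) (ht s).2.2.1
  have hmon : ∀ s, IsMonHom (t s) := fun s => (ht s).1
  obtain ⟨P, hP, p, hp, hpc, hcomp⟩ := exists_closed_subgroup_of_family (f := v)
    ⟨fun j => inferInstance, fun j => inferInstance, fun s => ⟨s, hs s⟩⟩ t (compat hconn hnil hv t ht)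
  have hm : Mono p := Sga3C.ClosedSub.mono_of_left p
  refine ⟨P, hP, p, isMaximalTorus_of_family v hv (fun s => ⟨s, hs s⟩) p hp hm fun j => ?_⟩
  obtain ⟨e, he⟩ := hcomp j
  refine AlgBc.isMaximalTorus_of_arrow e (Iso.refl _) ?_ (ht j)
  rw [he]
  exact Category.comp_id _

end Descent

end K15.NilpFam
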