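import Groth.Agent.Sga3.H799.Bc
import Groth.Agent.Sga3.H798.MaxTorCent
import Groth.Agent.Sga3.H784.Conj

/-!
# Normalizers of maximal tori and of their centralizers

* `exists_point_bc`: conjugation by a point of `G` with values in `X`, as conjugation by a section of the base
  change of `G` to `X`;
* `isNormalizerOf_iff`: over any base, `G` separated and locally of finite type, `T` a maximal torus and `C` its
  centralizer: the normalizer of `C` is the normalizer of `T`.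
-/

set_option autoImplicit false
universe u
open CategoryTheory MonoidalCategory CartesianMonoidalCategory MonObj GrpObj AlgebraicGeometry

namespace K15.NormCent

open Groth.Agent Groth.Agent.Sga3B.DSPts Groth.Agent.Sga3.H784.Conj

variable {S : Scheme.{u}}

/-- Conjugation by an `X`-valued point of `G`, as the conjugation by a section of the base change of `G` to `X`. -/
lemma exists_point_bc {X G : Over S} [GrpObj G] (g : X ⟶ G) :
    ∃ g' : 𝟙_ (Over X.left) ⟶ Red.bc X.hom G, ∀ (Y : Over X.left) (y : (Over.map X.hom).obj Y ⟶ G),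
      (toUnit Y ≫ g') * bcEquiv X.hom Y G y * (toUnit Y ≫ g')⁻¹ =
        bcEquiv X.hom Y G (((Over.homMk Y.hom : (Over.map X.hom).obj Y ⟶ X) ≫ g) * y *
          ((Over.homMk Y.hom : (Over.map X.hom).obj Y ⟶ X) ≫ g)⁻¹) := by
  let ε : (Over.map X.hom).obj (𝟙_ (Over X.left)) ⟶ X := Over.homMk (𝟙 _) (by
    change 𝟙 _ ≫ X.hom = 𝟙 _ ≫ X.hom
    rfl)
  refine ⟨bcEquiv X.hom _ G (ε ≫ g), fun Y y => ?_⟩
  have h1 : toUnit Y ≫ bcEquiv X.hom _ G (ε ≫ g) =
      bcEquiv X.hom Y G ((Over.homMk Y.hom : (Over.map X.hom).obj Y ⟶ X) ≫ g) := by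
    rw [bcEquiv_naturality, ← Category.assoc]
    congr 2
  rw [h1, map_mul, map_mul, map_inv]

/-- A point `x : X' ⟶ X` over `S` as a scheme over `X`. -/
noncomputable def ptIso {X X' : Over S} (x : X' ⟶ X) : X' ≅ (Over.map X.hom).obj (Over.mk x.left) :=
  Over.isoMk (Iso.refl _) (by simp)

lemma ptIso_comp {X X' : Over S} (x : X' ⟶ X) :
    (ptIso x).hom ≫ (Over.homMk (Over.mk x.left).hom : (Over.map X.hom).obj (Over.mk x.left) ⟶ X) = x := by
  ext1
  simp [ptIso]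

variable {G T C N : Over S} [GrpObj G] [GrpObj T] [GrpObj C] [GrpObj N]

/-- A point carrying the centralizer of a maximal torus into itself carries the maximal torus into itself. -/
theorem conj_torus_of_conj_centralizer [IsSeparated G.hom] [LocallyOfFiniteType G.hom] (i : T ⟶ G)
    (hT : Red.IsMaximalTorus i) (c : C ⟶ G) (hC : Red.IsCentralizerOf i c) {X : Over S} (g : X ⟶ G)
    (h : ∀ (X' : Over S) (x : X' ⟶ X) (h : X' ⟶ C), ∃ h' : X' ⟶ C,
      (x ≫ g) * (h ≫ c) * (x ≫ g)⁻¹ = h' ≫ c) :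
    ∀ (X' : Over S) (x : X' ⟶ X) (t : X' ⟶ T), ∃ t' : X' ⟶ T, (x ≫ g) * (t ≫ i) * (x ≫ g)⁻¹ = t' ≫ i := by
  have hi := hT.1
  obtain ⟨g', hg'⟩ := exists_point_bc g
  obtain ⟨i', hi'⟩ := (hC.2.2 T i).2 fun X x t => by
    rw [← MonObj.mul_comp, ← MonObj.mul_comp, Sga3B.MaxTorNear900.mul_comm_of_isTorus hT.2.2.1]
  have hmax : Red.IsMaximalTorus ((Over.pullback X.hom).map i) := Sga3.H799.Bc.isMaximalTorus_bc X.hom hT
  have hm := hmax.1
  obtain ⟨f, hf⟩ := Sga3.H798.MaxTorCent.exists_factor_of_comm ((Over.pullback X.hom).map i) hmax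
    ((Over.pullback X.hom).map i ≫ (conjIso g').hom) (Sga3B.TorusBc.isTorus_bc X.hom hT.2.2.1) (by
      intro Y t r
      obtain ⟨t, rfl⟩ := (bcEquiv X.hom Y T).surjective t
      obtain ⟨r, rfl⟩ := (bcEquiv X.hom Y T).surjective r
      rw [← Category.assoc, bcEquiv_comp, bcEquiv_comp, comp_conjIso_hom, hg', ← map_mul, ← map_mul]
      congr 1
      obtain ⟨c', hc'⟩ := h _ (Over.homMk Y.hom : (Over.map X.hom).obj Y ⟶ X) (r ≫ i')
      rw [Category.assoc, hi'] at hc'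
      rw [hc']
      have h2 := (hC.2.2 _ (c' ≫ c)).1 ⟨c', rfl⟩ _ (𝟙 _) t
      rw [Category.id_comp] at h2
      exact h2.symm)
  intro X' x t
  let y : (Over.map X.hom).obj (Over.mk x.left) ⟶ T := (ptIso x).inv ≫ t
  have h1 : bcEquiv X.hom _ T y ≫ f ≫ (Over.pullback X.hom).map i =
      bcEquiv X.hom _ G (((Over.homMk (Over.mk x.left).hom : (Over.map X.hom).obj (Over.mk x.left) ⟶ X) ≫ g) *
        (y ≫ i) * ((Over.homMk (Over.mk x.left).hom : (Over.map X.hom).obj (Over.mk x.left) ⟶ X) ≫ g)⁻¹) := by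
    rw [hf, ← Category.assoc, bcEquiv_comp, comp_conjIso_hom, hg']
  obtain ⟨z, hz⟩ := (bcEquiv X.hom _ T).surjective (bcEquiv X.hom _ T y ≫ f)
  rw [← Category.assoc, ← hz, bcEquiv_comp] at h1
  have h2 := (bcEquiv X.hom _ G).injective h1
  refine ⟨(ptIso x).hom ≫ z, ?_⟩
  rw [Category.assoc, h2, MonObj.comp_mul, MonObj.comp_mul, GrpObj.comp_inv, ← Category.assoc,
    ← Category.assoc, ptIso_comp, Iso.hom_inv_id_assoc]

omit [GrpObj C] in
/-- A point normalizing a subgroup normalizes its centralizer. -/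
theorem conj_centralizer_of_conj [GrpObj C] (i : T ⟶ G) (c : C ⟶ G) (hC : Red.IsCentralizerOf i c) {X : Over S}
    (g : X ⟶ G)
    (h : ∀ (X' : Over S) (x : X' ⟶ X) (t : X' ⟶ T), ∃ t' : X' ⟶ T,
      (x ≫ g)⁻¹ * (t ≫ i) * (x ≫ g) = t' ≫ i) :
    ∀ (X' : Over S) (x : X' ⟶ X) (a : X' ⟶ C), ∃ b : X' ⟶ C, (x ≫ g) * (a ≫ c) * (x ≫ g)⁻¹ = b ≫ c := by
  intro X' x a
  obtain ⟨b, hb⟩ := (hC.2.2 X' ((x ≫ g) * (a ≫ c) * (x ≫ g)⁻¹)).2 (by
    intro X'' y t
    obtain ⟨t', ht'⟩ := h X'' (y ≫ x) t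
    have h1 := (hC.2.2 X' (a ≫ c)).1 ⟨a, rfl⟩ X'' y t'
    rw [← ht'] at h1
    simp only [MonObj.comp_mul, GrpObj.comp_inv, Category.assoc] at h1 ⊢
    have h2 := congrArg (fun z => (y ≫ x ≫ g) * z * (y ≫ x ≫ g)⁻¹) h1
    simp only [_root_.mul_assoc, mul_inv_cancel_left, mul_inv_cancel, _root_.mul_one] at h2 ⊢
    exact h2)
  exact ⟨b, hb.symm⟩

/-- **The normalizer of the centralizer of a maximal torus is the normalizer of the maximal torus.** -/
theorem isNormalizerOf_iff [IsSeparated G.hom] [LocallyOfFiniteType G.hom] (i : T ⟶ G)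
    (hT : Red.IsMaximalTorus i) (c : C ⟶ G) (hC : Red.IsCentralizerOf i c) (n : N ⟶ G) :
    Red.IsNormalizerOf c n ↔ Red.IsNormalizerOf i n := by
  refine and_congr_right fun _ => and_congr_right fun _ => forall_congr' fun X => forall_congr' fun g => ?_
  refine iff_congr Iff.rfl ⟨fun h => ?_, fun h => ?_⟩
  · have h1 := conj_torus_of_conj_centralizer i hT c hC g fun X' x a => (h X' x a).1
    have h2 := conj_torus_of_conj_centralizer i hT c hC g⁻¹ fun X' x a => by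
      obtain ⟨b, hb⟩ := (h X' x a).2
      exact ⟨b, by rw [GrpObj.comp_inv, _root_.inv_inv, hb]⟩
    refine fun X' x t => ⟨h1 X' x t, ?_⟩
    obtain ⟨t', ht'⟩ := h2 X' x t
    exact ⟨t', by rw [← ht', GrpObj.comp_inv, _root_.inv_inv]⟩
  · have h1 := conj_centralizer_of_conj i c hC g fun X' x t => (h X' x t).2
    have h2 := conj_centralizer_of_conj i c hC g⁻¹ fun X' x t => by
      obtain ⟨b, hb⟩ := (h X' x t).1
      exact ⟨b, by rw [GrpObj.comp_inv, _root_.inv_inv, hb]⟩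
    refine fun X' x t => ⟨h1 X' x t, ?_⟩
    obtain ⟨t', ht'⟩ := h2 X' x t
    exact ⟨t', by rw [← ht', GrpObj.comp_inv, _root_.inv_inv]⟩

end K15.NormCent
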