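import Groth.Agent.Sga3.H831.CartTors
import Groth.Agent.Sga3.H794.ChevClosed
import Groth.Agent.Sga3.H784.Exist
import Groth.Agent.Agf.H612.NilpTorus
import Groth.Agent.S3929

/-!
# Nilpotent smooth connected algebraic groups (not necessarily affine)

`K` algebraically closed, `G` smooth connected of finite type over `K`.

* `nilpotent_iff`: `G(K)` is nilpotent iff `L(K)` is, `L` the affine part of `G`;
* `central_of_nilpotent`: if `G(K)` is nilpotent every torus of `G` is central;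
* `nilpotent_of_central`: if the tori of `G` are central then `G(K)` is nilpotent;
* `nilpotent_of_unique`: if `G` has only one maximal torus then `G(K)` is nilpotent.
-/

set_option autoImplicit false
universe u
open CategoryTheory MonoidalCategory CartesianMonoidalCategory MonObj GrpObj AlgebraicGeometry Limits

namespace K15.NilpGrp

open Groth.Agent
open Groth.Agent.Books.AlgPts Groth.Agent.Books.AlgPtsGrp Groth.Agent.Sga3.H794.ChevKer
  Groth.Agent.Sga3.H831.CentSurj Groth.Agent.Sga3.H784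
open Groth.Agent.Books.AffBridge Groth.Agent.Books.AffBridge2
open Groth.Agent.Sga3B.RG Groth.Agent.Sga3B.RG.BrPts Groth.Agent.Sga3B.RG.BrTorus
  Groth.Agent.Sga3B.RG.BrDiag Groth.Agent.Sga3B.RG.BrMax

variable {K : Type u} [Field K] [IsAlgClosed K]

/-- The base point. -/
local notation "𝟏" => 𝟙_ (Over (Spec (CommRingCat.of K)))

lemma isNilpotent_of_injective {Γ Γ' : Type*} [Group Γ] [Group Γ'] [Group.IsNilpotent Γ'] (f : Γ →* Γ')
    (hf : Function.Injective f) : Group.IsNilpotent Γ :=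
  Subgroup.isNilpotent_of_ker_le_center f (by rw [(MonoidHom.ker_eq_bot_iff f).2 hf]; exact bot_le)

/-- A smooth subgroup whose rational points are central is central. -/
theorem commute_of_points {G T : Over (Spec (CommRingCat.of K))} [GrpObj G] [Smooth G.hom]
    [Smooth T.hom] (i : T ⟶ G)
    (h : ∀ (t : 𝟏 ⟶ T) (g : 𝟏 ⟶ G), (t ≫ i) * g = g * (t ≫ i))
    {X : Over (Spec (CommRingCat.of K))} (t : X ⟶ T) (g : X ⟶ G) : (t ≫ i) * g = g * (t ≫ i) := by
  have hsep : IsSeparated G.hom := Groth.Agent.Localalg.GrpSchComp2.isSeparated_hom G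
  have hsm : Smooth (T ⊗ G).hom := by
    rw [Over.tensorObj_hom]
    infer_instance
  have hred : IsReduced (T ⊗ G).left := Books.AlgPtsSmooth.isReduced_of_smooth (T ⊗ G)
  have huniv : (fst T G ≫ i) * snd T G = snd T G * (fst T G ≫ i) := by
    refine hom_ext_of_points _ _ fun p => ?_
    rw [MonObj.comp_mul, MonObj.comp_mul, ← Category.assoc]
    exact h _ _
  have h := congr(lift t g ≫ $huniv)
  rw [MonObj.comp_mul, MonObj.comp_mul, lift_fst_assoc, lift_snd] at h
  exact h

/-- The affine part of a smooth connected algebraic group, and the centre. -/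
structure Aff (G L : Over (Spec (CommRingCat.of K))) [GrpObj G] [GrpObj L] (l : L ⟶ G) : Prop where
  hom : IsMonHom l
  mono : Mono l
  aff : IsAffine L.left
  smooth : Smooth L.hom
  conn : ConnectedSpace L.left
  /-- rational points are products of a central point and a point of `L` -/
  mul : ∀ g : 𝟏 ⟶ G, ∃ (z : 𝟏 ⟶ G) (y : 𝟏 ⟶ L), g = z * (y ≫ l) ∧ ∀ a : 𝟏 ⟶ G, Commute z a
  /-- `L` contains the tori of `G` -/
  tor : ∀ (T : Over (Spec (CommRingCat.of K))) [GrpObj T] (i : T ⟶ G) [IsMonHom i], Red.IsTorus T →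
    ∃ τ : T ⟶ L, τ ≫ l = i

/-- **Chevalley's theorem** and the surjectivity of the centre onto the abelian variety quotient. -/
theorem exists_aff (G : Over (Spec (CommRingCat.of K))) [GrpObj G] [Smooth G.hom] [QuasiCompact G.hom]
    [ConnectedSpace G.left] :
    ∃ (L : Over (Spec (CommRingCat.of K))) (_ : GrpObj L) (l : L ⟶ G), Aff G L l := by
  obtain ⟨L, _, l, A, _, q, h1, h2, h3, h4, h5, h6, h7, h8, h9, h10, h11, h12, h13⟩ :=
    Sga3.H794.ChevClosed.exists_chevalley K G
  have hlm : Mono l := mono_of_isClosedImmersion l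
  refine ⟨L, inferInstance, l, h1, hlm, h3, h4, h5, fun g => ?_, fun T _ i _ hT => ?_⟩
  · obtain ⟨z, hz, hzc⟩ := exists_central_pt G A q (g ≫ q)
    have h14 : (z⁻¹ * g) ≫ q = 1 := by
      rw [MonObj.mul_comp, GrpObj.inv_comp, hz, inv_mul_cancel]
    obtain ⟨y, hy⟩ := exists_lift_ker h10 _ h14
    refine ⟨z, y, by rw [hy, mul_inv_cancel_left], fun a => ?_⟩
    have h := hzc _ a
    rwa [toUnit_unique (toUnit _) (𝟙 _), Category.id_comp] at h
  · exact Sga3.H831.CartConn.exists_factor i hT l q h10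

variable {G L : Over (Spec (CommRingCat.of K))} [GrpObj G] [GrpObj L] {l : L ⟶ G}

/-- Nilpotency of the group of points is a property of the affine part. -/
theorem nilpotent_iff (h : Aff G L l) : Group.IsNilpotent (𝟏 ⟶ G) ↔ Group.IsNilpotent (𝟏 ⟶ L) := by
  have h1 := h.hom
  have h2 := h.mono
  constructor
  · intro hn
    exact isNilpotent_of_injective (Commute.ptHom 𝟏 l) (fun x y hxy => (cancel_mono l).1 hxy)
  · intro hn
    refine Group.of_quotient_center_nilpotent ?_
    refine Group.nilpotent_of_surjective ((QuotientGroup.mk' (Subgroup.center (𝟏 ⟶ G))).comp (Commute.ptHom 𝟏 l)) ?_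
    intro x
    obtain ⟨g, rfl⟩ := QuotientGroup.mk_surjective x
    obtain ⟨z, y, rfl, hz⟩ := h.mul g
    refine ⟨y, ?_⟩
    have hzc : z ∈ Subgroup.center (𝟏 ⟶ G) := Subgroup.mem_center_iff.2 fun a => (hz a).symm
    rw [QuotientGroup.mk_mul, (QuotientGroup.eq_one_iff z).2 hzc, _root_.one_mul]
    rfl

/-- Maximal tori of `G` are maximal tori of the affine part. -/
theorem isMaximalTorus_comp (h : Aff G L l) {T : Over (Spec (CommRingCat.of K))} [GrpObj T] (τ : T ⟶ L)
    (hτ : Red.IsMaximalTorus τ) : Red.IsMaximalTorus (τ ≫ l) := by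
  have hl := h.hom
  have hlm := h.mono
  rw [isMaximalTorus_iff_abs] at hτ ⊢
  obtain ⟨h1, h2, h3, h4⟩ := hτ
  refine ⟨inferInstance, inferInstance, h3, fun T' _ j _ _ f hT' hf => ?_⟩
  obtain ⟨σ, rfl⟩ := h.tor T' j hT'
  have h5 : IsMonHom σ := Sga3C.SubGrp.isMonHom_of_comp_mono σ l
  have h6 : Mono σ := mono_of_mono σ l
  refine h4 T' σ f hT' ?_
  rw [← cancel_mono l, Category.assoc, hf]

/-- If a maximal torus of the affine part is contained in the centre of `L(K)`, its points are central in `G`. -/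
theorem commute_of_central (h : Aff G L l) {T : Over (Spec (CommRingCat.of K))} [GrpObj T] (τ : T ⟶ L)
    (hc : ∀ (t : 𝟏 ⟶ T) (y : 𝟏 ⟶ L), (t ≫ τ) * y = y * (t ≫ τ)) (t : 𝟏 ⟶ T) (g : 𝟏 ⟶ G) :
    (t ≫ τ ≫ l) * g = g * (t ≫ τ ≫ l) := by
  have hl := h.hom
  obtain ⟨z, y, rfl, hz⟩ := h.mul g
  have h1 : Commute (t ≫ τ ≫ l) (y ≫ l) := by
    have h2 := congrArg (fun x => x ≫ l) (hc t y)
    have h3 : (t ≫ τ ≫ l) * (y ≫ l) = (y ≫ l) * (t ≫ τ ≫ l) := by
      simpa only [MonObj.mul_comp, Category.assoc] using h2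
    exact h3
  exact (hz _).symm.mul_right h1

omit [IsAlgClosed K] in
/-- Points of a maximal torus in the language of Hopf algebras. -/
theorem central_iff [IsAffine L.left] [Smooth L.hom] [ConnectedSpace L.left] {B : Type u} [CommRing B]
    [HopfAlgebra K B] (e : L ≅ SpecOver K B) [IsMonHom e.hom]
    {T : Over (Spec (CommRingCat.of K))} [GrpObj T] (τ : T ⟶ L) [IsMonHom τ] :
    (∀ (t : 𝟏 ⟶ T) (y : 𝟏 ⟶ L), (t ≫ τ) * y = y * (t ≫ τ)) ↔
      ptsSub (τ ≫ e.hom) ≤ Subgroup.center (Pt K B) := by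
  have hinv : IsMonHom e.inv := inferInstance
  constructor
  · rintro h x ⟨t, ht⟩
    rw [Subgroup.mem_center_iff]
    intro g
    apply (ptEquiv K B).injective
    have h1 := congrArg (fun y => y ≫ e.hom) (h t (ptEquiv K B g ≫ e.inv))
    rw [MonObj.mul_comp, MonObj.mul_comp, Category.assoc, Category.assoc, Iso.inv_hom_id,
      Category.comp_id, ht] at h1
    rw [map_mul, map_mul]
    exact h1.symm
  · intro h t y
    have h1 : (ptEquiv K B).symm (t ≫ τ ≫ e.hom) ∈ ptsSub (τ ≫ e.hom) := ⟨t, by simp⟩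
    have h2 := (Subgroup.mem_center_iff.1 (h h1)) ((ptEquiv K B).symm (y ≫ e.hom))
    rw [← map_mul, ← map_mul] at h2
    have h3 := (ptEquiv K B).symm.injective h2
    rw [← cancel_mono e.hom, MonObj.mul_comp, MonObj.mul_comp, Category.assoc]
    exact h3.symm

variable [Smooth G.hom] [QuasiCompact G.hom] [ConnectedSpace G.left]

/-- **Tori of nilpotent groups are central.** -/
theorem central_of_nilpotent (hn : Group.IsNilpotent (𝟏 ⟶ G)) {T : Over (Spec (CommRingCat.of K))}
    [GrpObj T] (j : T ⟶ G) [IsMonHom j] [Mono j] (hT : Red.IsTorus T) {X : Over (Spec (CommRingCat.of K))}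
    (t : X ⟶ T) (g : X ⟶ G) : (t ≫ j) * g = g * (t ≫ j) := by
  obtain ⟨L, _, l, h⟩ := exists_aff G
  have hl := h.hom
  have hlm := h.mono
  have h1 := h.aff
  have h2 := h.smooth
  have h3 := h.conn
  obtain ⟨T', _, i, f, hi, hf⟩ := Exist.exists_isMaximalTorus_of_torus j hT
  have him := hi.1
  obtain ⟨τ, hτ⟩ := h.tor T' i hi.2.2.1
  have hτm : IsMonHom τ := by
    have : IsMonHom (τ ≫ l) := by rw [hτ]; infer_instance
    exact Sga3C.SubGrp.isMonHom_of_comp_mono τ l
  have hτmax : Red.IsMaximalTorus τ :=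
    Sga3.H831.CartTors.isMaximalTorus_of_comp l τ (by rw [hτ]; exact hi)
  obtain ⟨B, _, _, e, he, hft, hdom⟩ := Agf.H611.NilPts.exists_hopf_domain L
  have hM := isMaxTorusSub_of_isMaximalTorus τ e hτmax
  have hnL : Group.IsNilpotent (Pt K B) := by
    have := (nilpotent_iff h).1 hn
    refine Group.nilpotent_of_surjective ((ptEquiv K B).symm.toMonoidHom.comp (Commute.ptHom 𝟏 e.hom)) ?_
    intro g
    refine ⟨ptEquiv K B g ≫ e.inv, ?_⟩
    change (ptEquiv K B).symm ((ptEquiv K B g ≫ e.inv) ≫ e.hom) = g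
    rw [Category.assoc, Iso.inv_hom_id, Category.comp_id, MulEquiv.symm_apply_apply]
  have hc := (central_iff e τ).2 (Agf.H612.NilpTorus.le_center_of_isNilpotent hM isConn_univ hnL)
  have hTs := Commute.smooth_of_isTorus hT
  refine commute_of_points j (fun t g => ?_) t g
  have h4 := commute_of_central h τ hc (t ≫ f) g
  rw [hτ, Category.assoc, hf] at h4
  exact h4

/-- **If the maximal tori are central the group is nilpotent.** -/
theorem nilpotent_of_central (hc : ∀ (T : Over (Spec (CommRingCat.of K))) [GrpObj T] (i : T ⟶ G),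
    Red.IsMaximalTorus i → ∀ (t : 𝟏 ⟶ T) (g : 𝟏 ⟶ G), (t ≫ i) * g = g * (t ≫ i)) :
    Group.IsNilpotent (𝟏 ⟶ G) := by
  obtain ⟨L, _, l, h⟩ := exists_aff G
  have hl := h.hom
  have hlm := h.mono
  have h1 := h.aff
  have h2 := h.smooth
  have h3 := h.conn
  obtain ⟨T, _, τ, hτ⟩ := Exist.exists_isMaximalTorus L
  have hτm := hτ.1
  obtain ⟨B, _, _, e, he, hft, hdom⟩ := Agf.H611.NilPts.exists_hopf_domain L
  have hM := isMaxTorusSub_of_isMaximalTorus τ e hτ
  have h4 := (central_iff e τ).1 fun t y => by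
    have h5 := hc T (τ ≫ l) (isMaximalTorus_comp h τ hτ) t (y ≫ l)
    rw [← cancel_mono l, MonObj.mul_comp, MonObj.mul_comp, Category.assoc]
    exact h5
  have h5 : AGF.IsNilpotentGrp (SpecOver K B) := Agf.H611.NilPts.isNilpotentGrp_specOver_of_le_center hM h4
  refine (nilpotent_iff h).2 ?_
  obtain ⟨n, hn⟩ := h5
  have h6 : Group.IsNilpotent (𝟏 ⟶ SpecOver K B) := ⟨n, hn _⟩
  exact isNilpotent_of_injective (Commute.ptHom 𝟏 e.hom) (fun x y hxy => (cancel_mono e.hom).1 hxy)

/-- **If there is only one maximal torus the group is nilpotent.** -/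
theorem nilpotent_of_unique (hu : ∀ (T₁ T₂ : Over (Spec (CommRingCat.of K))) [GrpObj T₁] [GrpObj T₂]
    (i₁ : T₁ ⟶ G) (i₂ : T₂ ⟶ G), Red.IsMaximalTorus i₁ → Red.IsMaximalTorus i₂ →
    ∃ φ : T₁ ≅ T₂, φ.hom ≫ i₂ = i₁) : Group.IsNilpotent (𝟏 ⟶ G) := by
  obtain ⟨L, _, l, h⟩ := exists_aff G
  have hl := h.hom
  have hlm := h.mono
  have h1 := h.aff
  have h2 := h.smooth
  have h3 := h.conn
  have h4 : AGF.IsNilpotentGrp L := S3929.result K L fun T T' _ _ iT iT' hT hT' => by
    obtain ⟨φ, hφ⟩ := hu T T' (iT ≫ l) (iT' ≫ l)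
      (isMaximalTorus_comp h iT ((isMaximalTorus_iff_abs iT).2 hT))
      (isMaximalTorus_comp h iT' ((isMaximalTorus_iff_abs iT').2 hT'))
    exact ⟨φ, by rw [← cancel_mono l, Category.assoc, hφ]⟩
  obtain ⟨n, hn⟩ := h4
  have h6 : Group.IsNilpotent (𝟏 ⟶ L) := ⟨n, hn _⟩
  exact (nilpotent_iff h).2 h6

end K15.NilpGrp
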