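import Groth.Agent.Sga3.H799.Cover
import Groth.Agent.Sga3.H773.FlatLoc
import Groth.Agent.Sga3.H831.CartBc
import Groth.Agent.Sga3.H831.CartFacts
import Groth.Agent.Sga3.H766.CartanCent

/-!
# Cartan subgroups: openness

`c : C ⟶ G` a closed smooth subgroup with connected fibres of a smooth separated group of finite type with
connected fibres, `i : T ⟶ G` a maximal torus, `x` a geometric point of the base at which `C` is a Cartan subgroup.

* `trSub`, `exists_rep`, `smooth_rep`: the transporter `{g : g T g⁻¹ ⊆ C}` is a closed subscheme of `G`, smooth over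
  the base;
* `local_case`: if `T ⊆ C`, then `C` is a Cartan subgroup at the geometric points of a neighbourhood of `x`;
* `main`: the same without assuming `T ⊆ C`.
-/

set_option autoImplicit false
universe u
open CategoryTheory MonoidalCategory CartesianMonoidalCategory MonObj GrpObj AlgebraicGeometry Limits

namespace K15.CartOpen

open Groth.Agent Groth.Agent.Sga3 Groth.Agent.Sga3B Groth.Agent.Sga3B.BcPts Groth.Agent.Sga3.H799.Bc
  Groth.Agent.Sga3.H799.Ev Groth.Agent.Sga3.H799
open Groth.Agent.Sga3.H798.SubTorus (ev_map)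
open Groth.Agent.Sga3B.InfConjFam (redMap)

section Rep

variable {S : Scheme.{u}} {G C T : Over S} [GrpObj G]

/-- The points `g` such that `g T g⁻¹ ⊆ C`. -/
def trSub (i : T ⟶ G) (c : C ⟶ G) (X : Over S) : Set (X ⟶ G) :=
  {g | ∀ (X' : Over S) (x : X' ⟶ X) (t : X' ⟶ T), ∃ b : X' ⟶ C, b ≫ c = (x ≫ g) * (t ≫ i) * (x ≫ g)⁻¹}

theorem exists_rep (i : T ⟶ G) (c : C ⟶ G) [IsClosedImmersion c.left] [LocallyOfFinitePresentation c.left]
    [Smooth T.hom] [GeometricallyIrreducible T.hom] :
    ∃ (P : Over S) (p : P ⟶ G), IsClosedImmersion p.left ∧ LocallyOfFinitePresentation p.left ∧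
      ∀ (X : Over S) (g : X ⟶ G), (∃ a : X ⟶ P, a ≫ p = g) ↔ g ∈ trSub i c X := by
  let a : G ⊗ T ⟶ G := fst _ _ * (snd _ _ ≫ i) * (fst _ _)⁻¹
  obtain ⟨P, p, hp, huniv, hfp⟩ := CentRep.exists_closed_map (X := G) (Q := T) a c
  refine ⟨P, p, hp, hfp inferInstance, fun X g => ?_⟩
  rw [huniv]
  refine forall_congr' fun X' => forall_congr' fun x => forall_congr' fun t => ?_
  have e1 : lift (x ≫ g) t ≫ a = (x ≫ g) * (t ≫ i) * (x ≫ g)⁻¹ := by
    simp only [a, MonObj.comp_mul, GrpObj.comp_inv, lift_fst, lift_snd_assoc]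
  rw [e1]

/-- The transporter is smooth. -/
theorem smooth_rep [GrpObj C] [GrpObj T] [Smooth G.hom] [IsSeparated G.hom] [Smooth C.hom]
    (c : C ⟶ G) [IsMonHom c] [Mono c] (i : T ⟶ G) [IsMonHom i] (hT : Red.IsTorus T) {P : Over S} (p : P ⟶ G)
    [IsClosedImmersion p.left] [LocallyOfFinitePresentation p.left]
    (hP : ∀ (X : Over S) (g : X ⟶ G), (∃ a : X ⟶ P, a ≫ p = g) ↔ g ∈ trSub i c X) :
    Smooth P.hom := by
  have hpm : Mono p := Over.mono_of_mono_left p
  obtain ⟨S', f, hf, hs, hcov, h⟩ := hT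
  refine CentSmooth.smooth_of_lift p (trSub i c) hP f hcov fun s' => ?_
  obtain ⟨U, hU, r, hr⟩ := h s'
  refine ⟨U, hU, fun B _ _ I hI x β hx g₁ hg₁ => ?_⟩
  have hQ : Red.IsSplitTorusWith (Fin r → ℤ) (Red.bc x T) := by
    rw [hx]
    exact CentSmooth.isSplit_bc _ β hr
  obtain ⟨e, he, ψ, hψ1, hψ2⟩ := CentLift.exists_isIsoFamily x hQ
  let a : Red.DS S (Fin r → ℤ) ⊗ Over.mk x ⟶ G := (snd _ _ ≫ g₁) * (e ≫ i) * (snd _ _ ≫ g₁)⁻¹
  have ha' : ∀ (A : Over S) (d : A ⟶ Red.DS S (Fin r → ℤ)) (t : A ⟶ Over.mk x),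
      lift d t ≫ a = (t ≫ g₁) * ((lift d t ≫ e) ≫ i) * (t ≫ g₁)⁻¹ := by
    intro A d t
    simp only [a, MonObj.comp_mul, GrpObj.comp_inv, lift_snd_assoc, Category.assoc]
  have ha : AutFam.IsHomFamily (Red.DS S (Fin r → ℤ)) G a := by
    intro A d₁ d₂ t
    rw [ha', ha', ha', he, MonObj.mul_comp]
    group
  obtain ⟨w, hw1, hw2⟩ := TranspFam.transp_family_local x G C I hI c a ha (by
    obtain ⟨b, hb⟩ := hg₁ (Red.DS S (Fin r → ℤ) ⊗ Over.mk (Spec.map (CommRingCat.ofHom
      (Ideal.Quotient.mk I)) ≫ x)) (snd _ _) ((Red.DS S (Fin r → ℤ) ◁ redMap x I) ≫ e)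
    refine ⟨b, ?_⟩
    rw [hb]
    simp only [a, MonObj.comp_mul, GrpObj.comp_inv, whiskerLeft_snd_assoc, Category.assoc])
  refine ⟨w, hw1, ?_⟩
  intro X k t
  obtain ⟨b, hb⟩ := hw2 X (lift t k ≫ ψ) k
  refine ⟨b, ?_⟩
  rw [hb, ha', hψ2]
  simp only [MonObj.comp_mul, GrpObj.comp_inv]
  group

end Rep

/-- A rational point conjugating `T` into `C`, at a geometric point where `C` is a Cartan subgroup. -/
theorem exists_point {S : Scheme.{u}} {G C T : Over S} [GrpObj G] [GrpObj C] [GrpObj T] [Smooth G.hom]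
    (c : C ⟶ G) (i : T ⟶ G) (hi : Red.IsMaximalTorus i) {K : Type u} [Field K] [IsAlgClosed K]
    (x : Spec (CommRingCat.of K) ⟶ S) (hs : SGA3x.IsCartanOver K ((Over.pullback x).map c)) :
    ∃ g : Over.mk x ⟶ G, g ∈ trSub i c (Over.mk x) := by
  obtain ⟨_, _, T₁, _, i₁, hi₁, hz⟩ := hs
  have hi₁1 := hi₁.1
  obtain ⟨g, φ, hφ⟩ := H784.NAMain.exists_conjBy ((Over.pullback x).map i) i₁
    (isMaximalTorus_bc _ hi) hi₁
  obtain ⟨g', rfl⟩ := Cover.exists_pt g
  have h1 : (Over.pullback x).map i ≫ conj (pt g') = φ.hom ≫ i₁ := by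
    rw [comp_conj, hφ]
  obtain ⟨τ, hτ⟩ := (hz.2.2 T₁ i₁).2 fun X' x t => by
    rw [← MonObj.mul_comp, ← MonObj.mul_comp, SplitBc264.torus_comm hi₁.2.2.1]
  have h2 := (exists_factor_iff ((Over.pullback x).map i ≫ conj (pt g')) c).1
    ⟨φ.hom ≫ τ, by rw [Category.assoc, hτ, h1]⟩
  refine ⟨g', fun X k t => ?_⟩
  obtain ⟨b, hb⟩ := h2 X t k
  exact ⟨b, by rw [hb, Transp.ev_conjBc]⟩

lemma isIso_of_open_closed {X Y : Scheme.{u}} (f : X ⟶ Y) [IsOpenImmersion f] [IsClosedImmersion f]
    [Nonempty X] [ConnectedSpace Y] : IsIso f := by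
  have h1 : IsClopen (Set.range f) := ⟨f.isClosedEmbedding.isClosed_range, f.isOpenEmbedding.isOpen_range⟩
  have h2 : Surjective f := ⟨Set.range_eq_univ.1 (h1.eq_univ (Set.range_nonempty f))⟩
  exact (isIso_iff_isOpenImmersion_and_surjective f).mpr ⟨inferInstance, h2⟩

/-- At a geometric point. -/
theorem geom_case {S : Scheme.{u}} {G C T D E : Over S} [GrpObj G] [GrpObj C] [GrpObj T] [GrpObj D] [GrpObj E]
    [Smooth G.hom] [QuasiCompact G.hom] [GeometricallyIrreducible G.hom] [GeometricallyIrreducible C.hom]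
    (c : C ⟶ G) [IsMonHom c] [Mono c] (i : T ⟶ G) (hi : Red.IsMaximalTorus i) (d : D ⟶ G)
    (hD : Red.IsCentralizerOf i d) (e : E ⟶ C) [IsMonHom e] [IsClosedImmersion e.left] (u : E ⟶ D)
    [IsMonHom u] [IsClosedImmersion u.left] (hu : u ≫ d = e ≫ c)
    {K : Type u} [Field K] [IsAlgClosed K] (y : Spec (CommRingCat.of K) ⟶ S)
    (he : IsOpenImmersion ((Over.pullback y).map e).left)
    (hu' : IsOpenImmersion ((Over.pullback y).map u).left) :
    SGA3x.IsCartanOver K ((Over.pullback y).map c) := by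
  have hi1 := hi.1
  have hi2 := hi.2.1
  have hE : Nonempty (Red.bc y E).left := by
    obtain ⟨z⟩ : Nonempty (Spec (CommRingCat.of K)) := inferInstance
    exact ⟨η[Red.bc y E].left z⟩
  have h1 : IsClosedImmersion ((Over.pullback y).map e).left :=
    MorphismProperty.of_isPullback (Parab.FibIsoSch.isPullback_map_left y e) inferInstance
  have h2 : IsClosedImmersion ((Over.pullback y).map u).left :=
    MorphismProperty.of_isPullback (Parab.FibIsoSch.isPullback_map_left y u) inferInstance
  have hDy := SplitBc264.isCentralizerOf_bc y hD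
  have hGirr : GeometricallyIrreducible (Red.bc y G).hom :=
    inferInstanceAs (GeometricallyIrreducible (pullback.snd _ _))
  have hCirr : GeometricallyIrreducible (Red.bc y C).hom :=
    inferInstanceAs (GeometricallyIrreducible (pullback.snd _ _))
  have hGs : Smooth (Red.bc y G).hom := inferInstanceAs (Smooth (pullback.snd _ _))
  have hGq : QuasiCompact (Red.bc y G).hom := inferInstanceAs (QuasiCompact (pullback.snd _ _))
  have hGi : IrreducibleSpace (Red.bc y G).left :=
    GeometricallyIrreducible.irreducibleSpace_of_subsingleton (Red.bc y G).hom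
  have hCi : IrreducibleSpace (Red.bc y C).left :=
    GeometricallyIrreducible.irreducibleSpace_of_subsingleton (Red.bc y C).hom
  have hDc : ConnectedSpace (Red.bc y D).left :=
    H831.CartFacts.connectedSpace_centralizer ((Over.pullback y).map i) (TorusBc.isTorus_bc y hi.2.2.1) hDy
  have h3 : IsIso ((Over.pullback y).map e).left := isIso_of_open_closed _
  have h4 : IsIso ((Over.pullback y).map u).left := isIso_of_open_closed _
  have h5 : IsIso ((Over.pullback y).map e) := by
    have : IsIso ((Over.forget _).map ((Over.pullback y).map e)) := h3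
    exact isIso_of_reflects_iso _ (Over.forget _)
  have h6 : IsIso ((Over.pullback y).map u) := by
    have : IsIso ((Over.forget _).map ((Over.pullback y).map u)) := h4
    exact isIso_of_reflects_iso _ (Over.forget _)
  refine ⟨inferInstance, inferInstance, Red.bc y T, inferInstance, (Over.pullback y).map i,
    isMaximalTorus_bc y hi, ?_⟩
  refine Cart.isCentralizerOf_of_iso hDy (CategoryTheory.inv ((Over.pullback y).map e) ≫ (Over.pullback y).map u) ?_
  rw [Category.assoc, ← Functor.map_comp, hu, Functor.map_comp, IsIso.inv_hom_id_assoc]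

/-- **The case where `C` contains the maximal torus.** -/
theorem local_case {S : Scheme.{u}} {G C T : Over S} [GrpObj G] [GrpObj C] [GrpObj T] [Smooth G.hom]
    [IsSeparated G.hom] [QuasiCompact G.hom] [GeometricallyIrreducible G.hom] [Smooth C.hom]
    [GeometricallyIrreducible C.hom] (c : C ⟶ G) [IsMonHom c] [IsClosedImmersion c.left]
    (i : T ⟶ G) (hi : Red.IsMaximalTorus i) (t : T ⟶ C) (ht : t ≫ c = i) {K : Type u} [Field K] [IsAlgClosed K]
    (x : Spec (CommRingCat.of K) ⟶ S) (hs : SGA3x.IsCartanOver K ((Over.pullback x).map c)) :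
    ∃ V : S.Opens, x (IsLocalRing.closedPoint K) ∈ V ∧ ∀ v ∈ V,
      SGA3x.IsCartanOver (AlgebraicClosure (S.residueField v)) ((Over.pullback (Red.geomPt v)).map c) := by
  have hi1 := hi.1
  have hi2 := hi.2.1
  have hcm : Mono c := Over.mono_of_mono_left c
  have htm : IsMonHom t := by
    have : IsMonHom (t ≫ c) := by rw [ht]; infer_instance
    exact Sga3C.SubGrp.isMonHom_of_comp_mono t c
  have htmo : Mono t := by
    have : Mono (t ≫ c) := by rw [ht]; infer_instance
    exact mono_of_mono t c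
  have hsepC : IsSeparated C.hom := by
    rw [← Over.w c]
    infer_instance
  obtain ⟨D, _, d, hD, hDcl, hDsm, hDlfp⟩ := H798.CentSep.exists_smooth_centralizer i hi.2.2.1
  obtain ⟨E, _, e, hE, hEcl, hEsm, hElfp⟩ := H798.CentSep.exists_smooth_centralizer t hi.2.2.1
  have hD1 := hD.1
  have hD2 := hD.2.1
  have hE1 := hE.1
  have hE2 := hE.2.1
  obtain ⟨u, hu⟩ := (hD.2.2 E (e ≫ c)).2 (fun X y h => by
    have h1 := (hE.2.2 E e).1 ⟨𝟙 _, Category.id_comp _⟩ X y h
    have h2 := congrArg (fun z => z ≫ c) h1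
    simpa only [MonObj.mul_comp, Category.assoc, ht] using h2)
  have hum : IsMonHom u := by
    have : IsMonHom (u ≫ d) := by rw [hu]; infer_instance
    exact Sga3C.SubGrp.isMonHom_of_comp_mono u d
  have humo : Mono u := by
    have : Mono (u ≫ d) := by rw [hu]; infer_instance
    exact mono_of_mono u d
  have huc : IsClosedImmersion u.left := by
    have : IsClosedImmersion (u.left ≫ d.left) := by
      rw [← Over.comp_left, hu, Over.comp_left]
      infer_instance
    exact IsClosedImmersion.of_comp u.left d.left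
  -- at `x`
  have hlftx : LocallyOfFiniteType ((Over.pullback x).obj G).hom :=
    inferInstanceAs (LocallyOfFiniteType (pullback.snd _ _))
  have hsepx : IsSeparated ((Over.pullback x).obj G).hom :=
    inferInstanceAs (IsSeparated (pullback.snd _ _))
  have hmx : (Over.pullback x).map i = (Over.pullback x).map t ≫ (Over.pullback x).map c := by
    rw [← Functor.map_comp, ht]
  have hK : Red.IsCentralizerOf ((Over.pullback x).map i) ((Over.pullback x).map c) := by
    rw [hmx]
    refine H766.CartanCent.isCentralizerOf_field _ hs _ ?_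
    rw [← hmx]
    exact isMaximalTorus_bc x hi
  have hEx := SplitBc264.isCentralizerOf_bc x hE
  have hDx := SplitBc264.isCentralizerOf_bc x hD
  have hei : IsIso ((Over.pullback x).map e) := by
    obtain ⟨a, ha⟩ := (hEx.2.2 _ (𝟙 _)).2 (fun X y h => by
      have h2 := (hK.2.2 _ (y ≫ (Over.pullback x).map c)).1 ⟨y, rfl⟩ X (𝟙 X) h
      have : Mono ((Over.pullback x).map c) := inferInstance
      rw [← cancel_mono ((Over.pullback x).map c), MonObj.mul_comp, MonObj.mul_comp,
        Category.comp_id, Category.assoc, ← hmx]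
      rw [Category.id_comp] at h2
      exact h2)
    have h3 : IsSplitEpi ((Over.pullback x).map e) := IsSplitEpi.mk' ⟨a, ha⟩
    have := hEx.2.1
    exact isIso_of_mono_of_isSplitEpi _
  have hui : IsIso ((Over.pullback x).map u) := by
    obtain ⟨e', he'⟩ := (hDx.2.2 _ ((Over.pullback x).map c)).2
      ((hK.2.2 _ _).1 ⟨𝟙 _, Category.id_comp _⟩)
    have h2 : IsIso e' := Cart.isIso_of_isCentralizerOf hK hDx e' he'
    have h3 : (Over.pullback x).map u = (Over.pullback x).map e ≫ e' := by
      have := hDx.2.1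
      rw [← cancel_mono ((Over.pullback x).map d), ← Functor.map_comp, hu, Category.assoc, he',
        Functor.map_comp]
    rw [h3]
    infer_instance
  refine ⟨H773.FlatLoc.locus e ⊓ H773.FlatLoc.locus u, ⟨?_, ?_⟩, fun v hv => ?_⟩
  · refine H773.FlatLoc.mem_locus_of_point e _ x rfl ?_
    have : IsIso ((Over.pullback x).map e).left :=
      inferInstanceAs (IsIso ((Over.forget _).map ((Over.pullback x).map e)))
    infer_instance
  · refine H773.FlatLoc.mem_locus_of_point u _ x rfl ?_
    have : IsIso ((Over.pullback x).map u).left :=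
      inferInstanceAs (IsIso ((Over.forget _).map ((Over.pullback x).map u)))
    infer_instance
  · refine geom_case c i hi d hD e u hu (Red.geomPt v) ?_ ?_
    · refine H773.FlatLoc.isOpenImmersion_bc e (Red.geomPt v) fun s' => ?_
      rw [H831.CartBc.geomPt_apply]
      exact hv.1
    · refine H773.FlatLoc.isOpenImmersion_bc u (Red.geomPt v) fun s' => ?_
      rw [H831.CartBc.geomPt_apply]
      exact hv.2

/-- **Openness of the locus where `C` is a Cartan subgroup**, when `G` has a maximal torus. -/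
theorem main {S : Scheme.{u}} {G C T : Over S} [GrpObj G] [GrpObj C] [GrpObj T] [Smooth G.hom]
    [IsSeparated G.hom] [QuasiCompact G.hom] [GeometricallyIrreducible G.hom] [Smooth C.hom]
    [GeometricallyIrreducible C.hom] (c : C ⟶ G) [IsMonHom c] [IsClosedImmersion c.left]
    (i : T ⟶ G) (hi : Red.IsMaximalTorus i) {K : Type u} [Field K] [IsAlgClosed K]
    (x : Spec (CommRingCat.of K) ⟶ S) (hs : SGA3x.IsCartanOver K ((Over.pullback x).map c)) :
    ∃ V : S.Opens, x (IsLocalRing.closedPoint K) ∈ V ∧ ∀ v ∈ V,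
      ∃ (L : Type u) (_ : Field L) (_ : IsAlgClosed L) (y : Spec (CommRingCat.of L) ⟶ S),
        y (IsLocalRing.closedPoint L) = v ∧ SGA3x.IsCartanOver L ((Over.pullback y).map c) := by
  have hi1 := hi.1
  have hi2 := hi.2.1
  have hcm : Mono c := Over.mono_of_mono_left c
  have := TorusIrr.geometricallyIrreducible_of_isTorus hi.2.2.1
  have := TorusAlgClosed.smooth_of_isTorus hi.2.2.1
  have hclfp : LocallyOfFinitePresentation c.left := FibCrit.lfp_left c
  obtain ⟨P, p, hp1, hp2, hP⟩ := exists_rep i c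
  have hsm := smooth_rep c i hi.2.2.1 p hP
  obtain ⟨g, hg⟩ := exists_point c i hi x hs
  obtain ⟨a, ha⟩ := (hP _ g).2 hg
  have hax : a.left ≫ P.hom = x := Over.w a
  -- over `P`
  obtain ⟨t', ht'⟩ := (exists_factor_iff ((Over.pullback P.hom).map i ≫ conj (pt (f := P.hom) p))
    c).2 (by
      intro A y k
      obtain ⟨b, hb⟩ := (hP P p).1 ⟨𝟙 P, Category.id_comp p⟩ A k y
      exact ⟨b, by rw [hb, Transp.ev_conjBc]⟩)
  have hG1 : Smooth (Red.bc P.hom G).hom := inferInstanceAs (Smooth (pullback.snd _ _))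
  have hG2 : IsSeparated (Red.bc P.hom G).hom := inferInstanceAs (IsSeparated (pullback.snd _ _))
  have hG3 : QuasiCompact (Red.bc P.hom G).hom := inferInstanceAs (QuasiCompact (pullback.snd _ _))
  have hG4 : GeometricallyIrreducible (Red.bc P.hom G).hom :=
    inferInstanceAs (GeometricallyIrreducible (pullback.snd _ _))
  have hC1 : Smooth (Red.bc P.hom C).hom := inferInstanceAs (Smooth (pullback.snd _ _))
  have hC4 : GeometricallyIrreducible (Red.bc P.hom C).hom :=
    inferInstanceAs (GeometricallyIrreducible (pullback.snd _ _))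
  have hc1 : IsClosedImmersion ((Over.pullback P.hom).map c).left :=
    MorphismProperty.of_isPullback (Parab.FibIsoSch.isPullback_map_left P.hom c) inferInstance
  have hs' : SGA3x.IsCartanOver K ((Over.pullback a.left).map ((Over.pullback P.hom).map c)) := by
    rw [← H831.CartBc.isCartanOver_comp_iff, hax]
    exact hs
  obtain ⟨V, hV1, hV2⟩ := local_case ((Over.pullback P.hom).map c)
    ((Over.pullback P.hom).map i ≫ conj (pt (f := P.hom) p))
    (Transp.isMaximalTorus_conj (isMaximalTorus_bc _ hi) _) t' ht' a.left hs'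
  refine ⟨⟨P.hom '' V, P.hom.isOpenMap _ V.2⟩, ⟨_, hV1, ?_⟩, ?_⟩
  · rw [← Scheme.Hom.comp_apply, hax]
  · rintro _ ⟨v, hv, rfl⟩
    refine ⟨_, inferInstance, inferInstance, Red.geomPt v ≫ P.hom, ?_, ?_⟩
    · rw [Scheme.Hom.comp_apply, H831.CartBc.geomPt_apply]
    · rw [H831.CartBc.isCartanOver_comp_iff]
      exact hV2 v hv

end K15.CartOpen
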