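import Groth.Agent.Sga3.H798.MaxTorCent
import Groth.Agent.Sga3.H784.Conj
import Groth.Agent.Sga3.H799.Bc

/-!
# Cartan subgroups of a group and of a subgroup containing a Cartan subgroup

* `isCartanOver_iff`: over an algebraically closed field, `i : H ⟶ G` a monomorphism such that `H` contains a
  Cartan subgroup of `G`: the Cartan subgroups of `H` are the Cartan subgroups of `G` contained in `H`;
* `isCartan_iff`: the same over a base.
-/

set_option autoImplicit false
universe u
open CategoryTheory MonoidalCategory CartesianMonoidalCategory MonObj GrpObj AlgebraicGeometry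

namespace K15.CartSub

open Groth.Agent Groth.Agent.Sga3.H784.Conj Groth.Agent.Sga3.H798

section Gen

variable {S : Scheme.{u}} {G H T C : Over S} [GrpObj G] [GrpObj H] [GrpObj T] [GrpObj C]

/-- A torus is contained in its centralizer. -/
lemma exists_factor_of_isTorus {i : T ⟶ G} [IsMonHom i] (hT : Red.IsTorus T) {c : C ⟶ G}
    (hC : Red.IsCentralizerOf i c) : ∃ t : T ⟶ C, t ≫ c = i :=
  (hC.2.2 T i).2 fun X x t => by
    rw [← MonObj.mul_comp, ← MonObj.mul_comp, Sga3B.MaxTorNear900.mul_comm_of_isTorus hT]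

/-- The centralizer in a subgroup which contains the centralizer. -/
lemma isCentralizerOf_of_comp (i : H ⟶ G) [IsMonHom i] [Mono i] (j : T ⟶ H) (c : C ⟶ H)
    (hC : Red.IsCentralizerOf (j ≫ i) (c ≫ i)) : Red.IsCentralizerOf j c := by
  have h1 := hC.1
  have h2 := hC.2.1
  refine ⟨Sga3C.SubGrp.isMonHom_of_comp_mono c i, mono_of_mono c i, fun X g => ?_⟩
  have h3 := hC.2.2 X (g ≫ i)
  constructor
  · rintro ⟨z, rfl⟩ X' x t
    have h4 := h3.1 ⟨z, by rw [Category.assoc]⟩ X' x t
    rw [← cancel_mono i, MonObj.mul_comp, MonObj.mul_comp]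
    simpa only [Category.assoc] using h4
  · intro h
    obtain ⟨z, hz⟩ := h3.2 fun X' x t => by
      have h4 := congrArg (fun y => y ≫ i) (h X' x t)
      simpa only [MonObj.mul_comp, Category.assoc] using h4
    exact ⟨z, by rw [← cancel_mono i, Category.assoc, hz]⟩

end Gen

section Field

variable {K : Type u} [Field K] [IsAlgClosed K]
  {G H C C' : Over (Spec (CommRingCat.of K))} [GrpObj G] [GrpObj H] [GrpObj C] [GrpObj C']

/-- A Cartan subgroup of `G` contained in `H` is a Cartan subgroup of `H`. -/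
theorem isCartanOver_of_comp (i : H ⟶ G) [IsMonHom i] [Mono i] (c : C ⟶ H)
    (h : SGA3x.IsCartanOver K (c ≫ i)) : SGA3x.IsCartanOver K c := by
  obtain ⟨h1, h2, T, _, j, hj, hc⟩ := h
  have hj1 := hj.1
  obtain ⟨t, ht⟩ := exists_factor_of_isTorus hj.2.2.1 hc
  obtain rfl : (t ≫ c) ≫ i = j := by rw [Category.assoc, ht]
  exact ⟨Sga3C.SubGrp.isMonHom_of_comp_mono c i, mono_of_mono c i, T, inferInstance, t ≫ c,
    MaxTorCent.isMaximalTorus_of_comp (t ≫ c) i hj, isCentralizerOf_of_comp i _ _ hc⟩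

/-- If `H` contains a Cartan subgroup of `G`, then the Cartan subgroups of `H` are Cartan subgroups of `G`. -/
theorem isCartanOver_comp [LocallyOfFiniteType H.hom] (i : H ⟶ G) [IsMonHom i] [Mono i] (c' : C' ⟶ H)
    (h' : SGA3x.IsCartanOver K (c' ≫ i)) (c : C ⟶ H) (h : SGA3x.IsCartanOver K c) :
    SGA3x.IsCartanOver K (c ≫ i) := by
  obtain ⟨h1', h2', T', _, j', hj', hc'⟩ := h'
  obtain ⟨h1, h2, T, _, j, hj, hc⟩ := h
  have hj1' := hj'.1
  have hj1 := hj.1
  obtain ⟨t', ht'⟩ := exists_factor_of_isTorus hj'.2.2.1 hc'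
  obtain rfl : (t' ≫ c') ≫ i = j' := by rw [Category.assoc, ht']
  have hmax' := MaxTorCent.isMaximalTorus_of_comp (t' ≫ c') i hj'
  obtain ⟨g, φ, hφ⟩ := exists_conjBy (t' ≫ c') j hmax' hj
  have hφ1 : φ.inv ≫ ((t' ≫ c') ≫ i) ≫ (conjIso (g ≫ i)).hom = j ≫ i := by
    rw [Iso.inv_comp_eq, ← Category.assoc φ.hom, ← hφ, ← comp_conjIso_hom, conjIso_hom_comp]
  have hφm : IsMonHom φ.inv := by
    have hm := hmax'.1
    have hmφ : IsMonHom φ.hom := by
      have : IsMonHom (φ.hom ≫ j) := by
        rw [← hφ, ← comp_conjIso_hom]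
        infer_instance
      have := hj.2.1
      exact Sga3C.SubGrp.isMonHom_of_comp_mono φ.hom j
    infer_instance
  have hmax : Red.IsMaximalTorus (j ≫ i) := by
    have h3 := isMaximalTorus_conj _ hj' (g ≫ i)
    rw [← hφ1]
    have hT : Red.IsTorus T := hj.2.2.1
    have h4 := h3.1
    have h5 := h3.2.1
    refine ⟨inferInstance, inferInstance, hT, fun s R _ r _ _ f hR hf => ?_⟩
    have h6 := h3.2.2.2 s R r ((Over.pullback (Red.geomPt s)).map φ.hom ≫ f) hR (by
      rw [Category.assoc, hf, ← Functor.map_comp, Iso.hom_inv_id_assoc])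
    exact IsIso.of_isIso_comp_left ((Over.pullback (Red.geomPt s)).map φ.hom) f
  refine ⟨inferInstance, inferInstance, T, inferInstance, j ≫ i, hmax, inferInstance, inferInstance,
    fun X a => ⟨?_, fun ha => ?_⟩⟩
  · rintro ⟨z, rfl⟩ X' x t
    have h4 := (hc.2.2 X (z ≫ c)).1 ⟨z, rfl⟩ X' x t
    have h5 := congrArg (fun y => y ≫ i) h4
    simpa only [MonObj.mul_comp, Category.assoc] using h5
  · -- `g⁻¹ a g` commutes with `T'`
    obtain ⟨z', hz'⟩ := (hc'.2.2 X (a ≫ (conjIso (g ≫ i)).inv)).2 fun X' x t => by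
      have h4 := ha X' x (t ≫ φ.hom)
      rw [Category.assoc, ← Category.assoc φ.hom, ← hφ, ← comp_conjIso_hom, conjIso_hom_comp] at h4
      have h5 := congrArg (fun y => y ≫ (conjIso (g ≫ i)).inv) h4
      simpa only [MonObj.mul_comp, Category.assoc, Iso.hom_inv_id, Category.comp_id] using h5
    have h6 : a = (z' ≫ c' ≫ (conjIso g).hom) ≫ i := by
      have h7 := congrArg (fun y => y ≫ (conjIso (g ≫ i)).hom) hz'
      simp only [Category.assoc, Iso.inv_hom_id, Category.comp_id] at h7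
      rw [← h7]
      have h8 := conjIso_hom_comp g i (z' ≫ c')
      simp only [Category.assoc] at h8 ⊢
      exact h8.symm
    obtain ⟨z, hz⟩ := (hc.2.2 X (z' ≫ c' ≫ (conjIso g).hom)).2 fun X' x t => by
      have h7 := ha X' x t
      rw [h6] at h7
      rw [← cancel_mono i]
      simpa only [MonObj.mul_comp, Category.assoc] using h7
    exact ⟨z, by rw [← Category.assoc, hz, h6]⟩

end Field

/-- **Cartan subgroups of a subgroup which contains fibrewise a Cartan subgroup.** -/
theorem isCartan_iff {S : Scheme.{u}} {G H C : Over S} [GrpObj G] [GrpObj H] [GrpObj C]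
    [LocallyOfFiniteType H.hom] (i : H ⟶ G) [IsMonHom i] [Mono i]
    (hHC : ∀ s : S, ∃ (C' : Over (Spec (CommRingCat.of (AlgebraicClosure (S.residueField s))))) (_ : GrpObj C')
      (c' : C' ⟶ Red.geomFibre s H), SGA3x.IsCartanOver _ (c' ≫ (Over.pullback (Red.geomPt s)).map i))
    (c : C ⟶ H) : SGA3x.IsCartan c ↔ SGA3x.IsCartan (c ≫ i) := by
  constructor
  · rintro ⟨h1, h2, h3, h4⟩
    refine ⟨inferInstance, inferInstance, h3, fun s => ?_⟩
    obtain ⟨C', _, c', hc'⟩ := hHC s
    rw [Functor.map_comp]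
    exact isCartanOver_comp _ c' hc' _ (h4 s)
  · rintro ⟨h1, h2, h3, h4⟩
    refine ⟨Sga3C.SubGrp.isMonHom_of_comp_mono c i, mono_of_mono c i, h3, fun s => ?_⟩
    have h5 := h4 s
    rw [Functor.map_comp] at h5
    exact isCartanOver_of_comp _ _ h5

end K15.CartSub
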