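import Groth.Agent.SGA3x.K15.ConjCoact
import Groth.Agent.SGA3x.K5.MTTransp
import Groth.Agent.SGA3x.K10.MTLoc
import Groth.Agent.Sga3.H773.FlatLoc
import Groth.Agent.Flat2B.SmoothGeom
import Groth.Agent.Sga3B.AdCentre
import Groth.Agent.Sga3B.SplitBc264
import Groth.Agent.Sga3.H799.Ev

/-!
# The kernel of the conjugation action of a diagonalizable subgroup

`DE R A = Spec A` is a smooth group over `Spec R` with connected fibres, `z : D(N) ⟶ Spec A` a homomorphism, `s` a point of
`Spec R`, `wts z s` the set of weights of `D(N)` on the functions on the fibre at `s`.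

* `exists_nhd_central`: `D(N / ⟨wts z s⟩)` is central over a neighbourhood of `s`;
* `exists_nhd_le`: over a neighbourhood of `s` the weight `n ∈ wts z s` is trivial on the points of `D(N)` which are
  central in `G`.
-/

set_option autoImplicit false
universe u
open CategoryTheory MonoidalCategory CartesianMonoidalCategory MonObj GrpObj AlgebraicGeometry Limits

namespace K15.CentSplit

open Groth.Agent Groth.Agent.Sga3B Groth.Agent.Sga3B.FreeBC Groth.Agent.Sga3B.DSPts Groth.Agent.Sga3B.AdGrad
  Groth.Agent.Sga3B.AdPts K15.ConjCoact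

section general

/-- An open and closed subgroup of a group with irreducible fibres. -/
theorem isIso_of_open_closed {S : Scheme.{u}} {C G : Over S} [GrpObj C] [GrpObj G] [Smooth G.hom]
    [GeometricallyIrreducible G.hom] (c : C ⟶ G) [IsMonHom c] [IsOpenImmersion c.left] [IsClosedImmersion c.left] :
    IsIso c := by
  have h1 : IsClopen (Set.range c.left) :=
    ⟨c.left.isClosedEmbedding.isClosed_range, c.left.isOpenEmbedding.isOpen_range⟩
  have h2 : Surjective c.left := by
    constructor
    intro y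
    let e : S ⟶ G.left := (η[G] : 𝟙_ (Over S) ⟶ G).left
    have he : e ≫ G.hom = 𝟙 S := Over.w (η[G] : 𝟙_ (Over S) ⟶ G)
    have hec : (η[C] : 𝟙_ (Over S) ⟶ C).left ≫ c.left = e := by
      rw [← Over.comp_left, IsMonHom.one_hom]
    have h3 : _root_.IsConnected (G.hom ⁻¹' {G.hom y}) :=
      (G.hom.isIrreducible_preimage G.hom.isOpenMap isIrreducible_singleton).isConnected
    have h4 : (G.hom ⁻¹' {G.hom y}) ⊆ Set.range c.left := by
      refine h3.isPreconnected.subset_isClopen h1 ⟨e (G.hom y), ?_, ?_⟩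
      · change G.hom (e (G.hom y)) = G.hom y
        rw [← Scheme.Hom.comp_apply, he]
        rfl
      · exact ⟨(η[C] : 𝟙_ (Over S) ⟶ C).left (G.hom y), by rw [← hec]; rfl⟩
    exact h4 rfl
  have h3 : IsIso c.left := (isIso_iff_isOpenImmersion_and_surjective c.left).mpr ⟨inferInstance, h2⟩
  have : IsIso ((Over.forget S).map c) := h3
  exact isIso_of_reflects_iso c (Over.forget S)

/-- A global function whose basic open is everything is a unit. -/
theorem isUnit_of_basicOpen_eq_top {X : Scheme.{u}} (f : Γ(X, ⊤)) (h : X.basicOpen f = ⊤) : IsUnit f := by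
  have h1 := X.toRingedSpace.isUnit_res_basicOpen f
  have h2 : X.toRingedSpace.basicOpen f = ⊤ := h
  have e : (X.presheaf.map (homOfLE (h2.ge)).op)
      (X.presheaf.map (homOfLE (le_top (a := X.toRingedSpace.basicOpen f))).op f) = f := by
    rw [← CommRingCat.comp_apply, ← Functor.map_comp]
    change (X.presheaf.map (𝟙 _)) f = f
    simp
  rw [← e]
  exact h1.map (X.presheaf.map (homOfLE (h2.ge)).op).hom

end general

variable {R A : Type u} [CommRing R] [CommRing A] [Algebra R A] {N : Type} [AddCommGroup N]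

variable [GrpObj (DE R A)] (z : Red.DS (Spec (CommRingCat.of R)) N ⟶ DE R A) [IsMonHom z]

/-- The weights of `D(N)`, acting by conjugation, on the functions on the fibre at `s`. -/
def wts (s : Spec (CommRingCat.of R)) : Set N :=
  {n | ∃ a, (coactC z).IsHom n a ∧ ∃ x : (DE R A).left, (DE R A).hom x = s ∧
    x ∈ (DE R A).left.basicOpen (fn (𝟙 (DE R A)) a)}

omit [GrpObj (DE R A)] in
/-- A function vanishing at the points of a reduced fibre vanishes on the fibre. -/
theorem fn_eq_zero {K : Type u} [Field K] (p : Spec (CommRingCat.of K) ⟶ Spec (CommRingCat.of R))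
    (s : Spec (CommRingCat.of R)) (hp : p (IsLocalRing.closedPoint K) = s) [Smooth (DE R A).hom] (a : A)
    (ha : ∀ x : (DE R A).left, (DE R A).hom x = s → x ∉ (DE R A).left.basicOpen (fn (𝟙 (DE R A)) a))
    {X : Over (Spec (CommRingCat.of R))} (h : X ⟶ Over.mk p) (g : X ⟶ DE R A) : fn g a = 0 := by
  have hred : IsReduced (pullback (DE R A).hom p) := Flat2B.SmoothGeom.isReduced_of_smooth (pullback.snd (DE R A).hom p)
  have h1 : (pullback.fst (DE R A).hom p).appTop (fn (𝟙 (DE R A)) a) = 0 := by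
    rw [← AlgebraicGeometry.basicOpen_eq_bot_iff, eq_bot_iff]
    intro y hy
    exfalso
    have h2 : (pullback.fst (DE R A).hom p) y ∈ (DE R A).left.basicOpen (fn (𝟙 (DE R A)) a) := by
      have h3 := Scheme.preimage_basicOpen (pullback.fst (DE R A).hom p) (U := ⊤) (fn (𝟙 (DE R A)) a)
      have h4 : y ∈ (pullback.fst (DE R A).hom p) ⁻¹ᵁ (DE R A).left.basicOpen (fn (𝟙 (DE R A)) a) := by
        rw [h3]
        exact hy
      exact h4
    refine ha _ ?_ h2
    rw [← Scheme.Hom.comp_apply, pullback.condition, Scheme.Hom.comp_apply, ← hp]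
    congr 1
    exact Subsingleton.elim (α := PrimeSpectrum K) _ _
  have hw : g.left ≫ (DE R A).hom = h.left ≫ p := (Over.w g).trans (Over.w h).symm
  have h2 : g.left = pullback.lift g.left h.left hw ≫ pullback.fst (DE R A).hom p := (pullback.lift_fst _ _ _).symm
  rw [fn_eq, h2, Scheme.Hom.comp_appTop]
  change (pullback.lift g.left h.left hw).appTop ((pullback.fst (DE R A).hom p).appTop (fn (𝟙 (DE R A)) a)) = 0
  rw [h1, map_zero]

/-- On the fibre at `s`, the kernel of the weights acts trivially. -/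
theorem cj_eq_self {K : Type u} [Field K] (p : Spec (CommRingCat.of K) ⟶ Spec (CommRingCat.of R))
    (s : Spec (CommRingCat.of R)) (hp : p (IsLocalRing.closedPoint K) = s) [Smooth (DE R A).hom]
    (N' : AddSubgroup N) (hN' : wts z s ⊆ N') {X : Over (Spec (CommRingCat.of R))} (h : X ⟶ Over.mk p)
    (t : X ⟶ Red.DS (Spec (CommRingCat.of R)) (N ⧸ N')) (g : X ⟶ DE R A) :
    cj z (t ≫ Red.DSmap _ (QuotientAddGroup.mk' N')) g = g := by
  apply fn_injective
  intro a
  obtain ⟨I, b, hb, rfl⟩ := exists_sum z a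
  rw [map_sum, map_sum]
  refine Finset.sum_congr rfl fun n _ => ?_
  rw [fn_cj_of_isHom z g _ (hb n)]
  by_cases hn : n ∈ N'
  · rw [dsChar_DSmap, MonoidHom.comp_apply]
    have h2 : AddMonoidHom.toMultiplicative (QuotientAddGroup.mk' N') (Multiplicative.ofAdd n) = 1 :=
      (QuotientAddGroup.eq_zero_iff _).2 hn
    rw [h2, map_one, _root_.mul_one]
  · have h1 : fn g (b n) = 0 := by
      refine fn_eq_zero p s hp (b n) (fun x hx hx' => hn (hN' ⟨b n, hb n, x, hx, hx'⟩)) h g
    rw [h1, zero_mul]

/-- **The kernel of the weights at `s` is central near `s`.** -/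
theorem exists_nhd_central [Smooth (DE R A).hom] [GeometricallyIrreducible (DE R A).hom]
    (s : Spec (CommRingCat.of R)) (hN : AddGroup.FG N) (N' : AddSubgroup N) (hN' : wts z s ⊆ N') :
    ∃ V : (Spec (CommRingCat.of R)).Opens, s ∈ V ∧ ∀ (X : Over (Spec (CommRingCat.of R))),
      Set.range X.hom ⊆ (V : Set (Spec (CommRingCat.of R))) →
      ∀ (t : X ⟶ Red.DS (Spec (CommRingCat.of R)) (N ⧸ N')) (g : X ⟶ DE R A),
        cj z (t ≫ Red.DSmap _ (QuotientAddGroup.mk' N')) g = g := by
  let k : Red.DS (Spec (CommRingCat.of R)) (N ⧸ N') ⟶ DE R A := Red.DSmap _ (QuotientAddGroup.mk' N') ≫ z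
  have hfg : AddGroup.FG (N ⧸ N') := inferInstance
  have hMT : SGA3x.IsMultTypeFT (Red.DS (Spec (CommRingCat.of R)) (N ⧸ N')) :=
    K10.MTLoc.of_split hfg ⟨Iso.refl _⟩
  have hsep : IsSeparated (DE R A).hom := inferInstanceAs (IsSeparated (Spec.map _))
  obtain ⟨C, _, c, hC, hcl, hsm, hlfp⟩ := SGA3x.K5.MTTransp.exists_centralizer k hMT
  have hc1 := hC.1
  have hc2 := hC.2.1
  refine ⟨Sga3.H773.FlatLoc.locus c, ?_, fun X hX t g => ?_⟩
  · let p : Spec (CommRingCat.of ((Spec (CommRingCat.of R)).residueField s)) ⟶ Spec (CommRingCat.of R) :=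
      (Spec (CommRingCat.of R)).fromSpecResidueField s
    have hp : p (IsLocalRing.closedPoint _) = s := Scheme.fromSpecResidueField_apply _ _
    refine Sga3.H773.FlatLoc.mem_locus_of_point c s p hp ?_
    have hCp := SplitBc264.isCentralizerOf_bc p hC
    have hiso : IsIso ((Over.pullback p).map c) := by
      obtain ⟨σ, hσ⟩ := (hCp.2.2 _ (𝟙 (Red.bc p (DE R A)))).2 fun X' x h => by
        obtain ⟨x₀, rfl⟩ := (BcPts.bcEquiv p X' (DE R A)).surjective x
        obtain ⟨h₀, rfl⟩ := (BcPts.bcEquiv p X' _).surjective h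
        rw [Category.comp_id, ← BcPts.bcEquiv_comp, ← BcPts.bcEquiv_mul, ← BcPts.bcEquiv_mul]
        congr 1
        have h1 := cj_eq_self z p s hp N' hN' (Sga3.H799.Ev.str (f := p) X') h₀ x₀
        rw [cj, Category.assoc, mul_inv_eq_iff_eq_mul] at h1
        exact h1.symm
      have : IsSplitEpi ((Over.pullback p).map c) := IsSplitEpi.mk' ⟨σ, hσ⟩
      have := hCp.2.1
      exact isIso_of_mono_of_isSplitEpi _
    have : IsIso ((Over.pullback p).map c).left := inferInstanceAs (IsIso ((Over.forget _).map ((Over.pullback p).map c)))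
    infer_instance
  · have h1 : IsOpenImmersion ((Over.pullback X.hom).map c).left :=
      Sga3.H773.FlatLoc.isOpenImmersion_bc c X.hom fun x => hX ⟨x, rfl⟩
    have h2 : IsClosedImmersion ((Over.pullback X.hom).map c).left :=
      MorphismProperty.of_isPullback (Parab.FibIsoSch.isPullback_map_left X.hom c) inferInstance
    have h3 : Smooth (Red.bc X.hom (DE R A)).hom := inferInstanceAs (Smooth (pullback.snd _ _))
    have h4 : GeometricallyIrreducible (Red.bc X.hom (DE R A)).hom :=
      inferInstanceAs (GeometricallyIrreducible (pullback.snd _ _))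
    have h5 : IsIso ((Over.pullback X.hom).map c) := isIso_of_open_closed _
    have h6 : ∃ g₀ : X ⟶ C, g₀ ≫ c = g := by
      let e : X ⟶ (Over.map X.hom).obj (𝟙_ (Over X.left)) := Over.homMk (𝟙 _) (by
        simp only [Over.map_obj_hom]
        erw [Category.id_comp, Category.id_comp])
      let e' : (Over.map X.hom).obj (𝟙_ (Over X.left)) ⟶ X := Over.homMk (𝟙 _) (by
        simp only [Over.map_obj_hom]
        erw [Category.id_comp])
      have he : e ≫ e' = 𝟙 X := by
        ext1
        simp only [e, e', Over.comp_left, Over.homMk_left, Over.id_left]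
        exact Category.comp_id _
      obtain ⟨y, hy⟩ : ∃ y : 𝟙_ (Over X.left) ⟶ Red.bc X.hom C, y ≫ (Over.pullback X.hom).map c =
          BcPts.bcEquiv X.hom _ _ (e' ≫ g) :=
        ⟨BcPts.bcEquiv X.hom _ _ (e' ≫ g) ≫ CategoryTheory.inv ((Over.pullback X.hom).map c), by
          rw [Category.assoc, IsIso.inv_hom_id, Category.comp_id]⟩
      obtain ⟨y₀, rfl⟩ := (BcPts.bcEquiv X.hom _ C).surjective y
      rw [← BcPts.bcEquiv_comp] at hy
      have h7 := (BcPts.bcEquiv X.hom _ _).injective hy
      refine ⟨e ≫ y₀, ?_⟩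
      rw [Category.assoc, h7, ← Category.assoc, he, Category.id_comp]
    have h7 := (hC.2.2 X g).1 h6 X (𝟙 X) t
    rw [Category.id_comp] at h7
    rw [cj, Category.assoc, mul_inv_eq_iff_eq_mul]
    exact h7.symm

/-- **The weights at `s` are trivial on central points near `s`.** -/
theorem exists_nhd_le [Smooth (DE R A).hom] (s : Spec (CommRingCat.of R)) (n : N) (hn : n ∈ wts z s) :
    ∃ V : (Spec (CommRingCat.of R)).Opens, s ∈ V ∧ ∀ (X : Over (Spec (CommRingCat.of R))),
      Set.range X.hom ⊆ (V : Set (Spec (CommRingCat.of R))) →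
      ∀ (t : X ⟶ Red.DS (Spec (CommRingCat.of R)) N),
        (∀ (Y : Over (Spec (CommRingCat.of R))) (y : Y ⟶ X) (g : Y ⟶ DE R A), cj z (y ≫ t) g = g) →
        dsChar t (Multiplicative.ofAdd n) = 1 := by
  obtain ⟨a, ha, x, hx, hxa⟩ := hn
  let U : (DE R A).left.Opens := (DE R A).left.basicOpen (fn (𝟙 (DE R A)) a)
  let q : U.toScheme ⟶ Spec (CommRingCat.of R) := U.ι ≫ (DE R A).hom
  have hq : Smooth q := inferInstance
  refine ⟨⟨Set.range q, q.isOpenMap.isOpen_range⟩, ⟨⟨x, hxa⟩, hx⟩, fun X hX t h => ?_⟩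
  have hsurj : Surjective (pullback.fst X.hom q) := by
    constructor
    intro y
    obtain ⟨w, hw⟩ := hX ⟨y, rfl⟩
    obtain ⟨v, hv, -⟩ := Scheme.Pullback.exists_preimage_pullback (f := X.hom) (g := q) y w hw.symm
    exact ⟨v, hv⟩
  have hflat : Flat (pullback.fst X.hom q) := inferInstance
  let Y : Over (Spec (CommRingCat.of R)) := Over.mk (pullback.fst X.hom q ≫ X.hom)
  let y : Y ⟶ X := Over.homMk (pullback.fst X.hom q) rfl
  let g : Y ⟶ DE R A := Over.homMk (pullback.snd X.hom q ≫ U.ι) (by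
    change (pullback.snd X.hom q ≫ U.ι) ≫ (DE R A).hom = pullback.fst X.hom q ≫ X.hom
    rw [pullback.condition, Category.assoc])
  have hepi : Epi y := by
    have h1 : Epi y.left := Flat.epi_of_flat_of_surjective (pullback.fst X.hom q)
    exact Over.epi_of_epi_left y
  have h1 := congrArg (fun g' => fn g' a) (h Y y g)
  simp only [fn_cj_of_isHom z g _ ha] at h1
  have hunit : IsUnit (fn g a) := by
    have h2 : IsUnit (U.ι.appTop (fn (𝟙 (DE R A)) a)) := by
      apply isUnit_of_basicOpen_eq_top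
      rw [← Scheme.preimage_basicOpen_top, eq_top_iff]
      rintro y -
      exact y.2
    rw [fn_eq]
    change IsUnit ((pullback.snd X.hom q ≫ U.ι).appTop (fn (𝟙 (DE R A)) a))
    rw [Scheme.Hom.comp_appTop]
    exact h2.map (pullback.snd X.hom q).appTop.hom
  have h2 : dsChar (y ≫ t) (Multiplicative.ofAdd n) = 1 := by
    have h3 : fn g a * dsChar (y ≫ t) (Multiplicative.ofAdd n) = fn g a * 1 := by
      rw [h1, _root_.mul_one]
    exact hunit.mul_left_cancel h3
  rw [← AdCentre.dsChar_chi] at h2 ⊢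
  rw [← cancel_epi y, MonObj.comp_one, ← h2, Category.assoc]

end K15.CentSplit
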