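import Groth.Agent.Sga3B.AdPts

/-!
# The coaction attached to conjugation by a diagonalizable subgroup

`DE R A = Spec A` is a group over `Spec R`, `z : D(N) ⟶ Spec A` a homomorphism.  Conjugation gives a coaction `coactC z` of
`D(N)` on `A`; `fn_conj_of_isHom`: homogeneous functions are semi-invariant.
-/

set_option autoImplicit false
universe u
open CategoryTheory MonoidalCategory CartesianMonoidalCategory MonObj GrpObj AlgebraicGeometry Limits

namespace K15.ConjCoact

open Groth.Agent.Sga3B Groth.Agent.Sga3B.FreeBC Groth.Agent.Sga3B.DSPts Groth.Agent.Sga3B.AdGrad Groth.Agent.Sga3B.AdPts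

variable {R A : Type u} [CommRing R] [CommRing A] [Algebra R A] {N : Type} [AddCommGroup N]

variable [GrpObj (DE R A)] (z : Red.DS (Spec (CommRingCat.of R)) N ⟶ DE R A)

/-- conjugation by a point of `D(N)` -/
noncomputable def cj {X : Over (Spec (CommRingCat.of R))} (t : X ⟶ Red.DS (Spec (CommRingCat.of R)) N) (g : X ⟶ DE R A) :
    X ⟶ DE R A := (t ≫ z) * g * (t ≫ z)⁻¹

lemma comp_cj {X Y : Over (Spec (CommRingCat.of R))} (v : Y ⟶ X)
    (t : X ⟶ Red.DS (Spec (CommRingCat.of R)) N) (g : X ⟶ DE R A) : v ≫ cj z t g = cj z (v ≫ t) (v ≫ g) := by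
  simp only [cj, comp_mul, GrpObj.comp_inv, Category.assoc]

/-- the coaction as a ring map -/
noncomputable def rhoHom : A →+* MonoidAlgebra A (Multiplicative N) :=
  ((RingEquiv.ofBijective _ (fn_id_bijective (R := R) (MonoidAlgebra A (Multiplicative N)))).symm :
    _ →+* MonoidAlgebra A (Multiplicative N)).comp (fn (cj z (tU R A N) (gU R A N)))

lemma fn_rhoHom (a : A) : fn (𝟙 (U R A N)) (rhoHom z a) = fn (cj z (tU R A N) (gU R A N)) a :=
  (RingEquiv.ofBijective _ (fn_id_bijective (R := R) (MonoidAlgebra A (Multiplicative N)))).apply_symm_apply _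

/-- the coaction attached to conjugation -/
noncomputable def rho : A →ₐ[R] MonoidAlgebra A (Multiplicative N) where
  __ := rhoHom z
  commutes' r := (fn_id_bijective (R := R) _).1 (by
    refine (fn_rhoHom z _).trans ?_
    rw [fn_algebraMap, fn_algebraMap])

lemma fn_rho (a : A) : fn (𝟙 (U R A N)) (rho z a) = fn (cj z (tU R A N) (gU R A N)) a := fn_rhoHom z a

/-- conjugation on functions -/
lemma fn_cj {X : Over (Spec (CommRingCat.of R))} (g : X ⟶ DE R A) (t : X ⟶ Red.DS (Spec (CommRingCat.of R)) N)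
    (a : A) : fn (cj z t g) a = lft (fn g) (dsChar t) (rho z a) := by
  obtain ⟨v, h1, h2, h3⟩ := exists_pair g t
  rw [← h3, fn_eq v, fn_rho, ← fn_comp, comp_cj, h1, h2]

lemma rho_counit [IsMonHom z] (a : A) : ((rho z a).coeff.sum fun _ b => b) = a := by
  have h := fn_cj z (𝟙 (DE R A)) 1 a
  have h1 : cj z (1 : DE R A ⟶ Red.DS (Spec (CommRingCat.of R)) N) (𝟙 (DE R A)) = 𝟙 _ := by
    rw [cj, one_comp, _root_.one_mul, _root_.inv_one, _root_.mul_one]
  rw [h1, lft_apply] at h
  apply (fn_id_bijective (R := R) A).1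
  rw [h, Finsupp.sum, Finsupp.sum, map_sum]
  refine Finset.sum_congr rfl fun n _ => ?_
  have : dsChar (1 : DE R A ⟶ Red.DS (Spec (CommRingCat.of R)) N) = 1 := by
    simp [dsChar]
  rw [this, MonoidHom.one_apply, _root_.mul_one]

lemma cj_cj [IsMonHom z] {X : Over (Spec (CommRingCat.of R))} (t t' : X ⟶ Red.DS (Spec (CommRingCat.of R)) N)
    (g : X ⟶ DE R A) : cj z t (cj z t' g) = cj z (t' * t) g := by
  have hc : t' * t = t * t' := by
    apply (dsEquiv X N).symm.injective
    rw [map_mul, map_mul, _root_.mul_comm]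
  rw [hc]
  simp only [cj, MonObj.mul_comp, _root_.mul_inv_rev, _root_.mul_assoc]

lemma rho_coassoc [IsMonHom z] (a : A) (m : Multiplicative N) :
    rho z ((rho z a).coeff m) = MonoidAlgebra.single m ((rho z a).coeff m) := by
  let T := MonoidAlgebra (MonoidAlgebra A (Multiplicative N)) (Multiplicative N)
  -- the map to the universal pair
  obtain ⟨w, hw⟩ := exists_of_ringHom (R := R) (E := MonoidAlgebra A (Multiplicative N)) (X := DE R T)
    ((fn (𝟙 (DE R T))).comp (algebraMap (MonoidAlgebra A (Multiplicative N)) T)) (by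
      intro r
      rw [RingHom.comp_apply, ← IsScalarTower.algebraMap_apply R (MonoidAlgebra A (Multiplicative N)) T]
      exact fn_algebraMap _ _)
  let t₂ : DE R T ⟶ Red.DS (Spec (CommRingCat.of R)) N :=
    dsEquiv _ _ (((fn (𝟙 (DE R T))) : _ →* _).comp (MonoidAlgebra.of (MonoidAlgebra A (Multiplicative N)) (Multiplicative N)))
  have ht₂ : ∀ n, dsChar t₂ n = fn (𝟙 (DE R T)) (MonoidAlgebra.single n 1) := fun n => by
    simp only [t₂]
    rw [dsChar_dsEquiv]
    rfl
  have key : cj z t₂ (cj z (w ≫ tU R A N) (w ≫ gU R A N)) = cj z ((w ≫ tU R A N) * t₂) (w ≫ gU R A N) :=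
    cj_cj z _ _ _
  have h1 : ∀ b, fn (cj z (w ≫ tU R A N) (w ≫ gU R A N)) b = fn (𝟙 _) (MonoidAlgebra.single 1 (rho z b) : T) := by
    intro b
    rw [← comp_cj z w (tU R A N) (gU R A N), fn_comp, ← fn_rho, ← fn_comp, Category.comp_id, hw]
    rfl
  have h2 : fn (cj z t₂ (cj z (w ≫ tU R A N) (w ≫ gU R A N))) a =
      fn (𝟙 _) ((rho z a).coeff.sum fun n b => (MonoidAlgebra.single n (rho z b) : T)) := by
    rw [fn_cj, lft_apply, Finsupp.sum, Finsupp.sum, map_sum]
    refine Finset.sum_congr rfl fun n _ => ?_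
    rw [h1, ht₂, ← _root_.map_mul, MonoidAlgebra.single_mul_single, _root_.one_mul, _root_.mul_one]
  have h3 : ∀ b, fn (w ≫ gU R A N) b = fn (𝟙 _) (MonoidAlgebra.single 1 (MonoidAlgebra.single 1 b) : T) := by
    intro b
    rw [fn_comp, fn_gU, ← fn_eq, hw]
    rfl
  have h4 : ∀ n, dsChar (w ≫ tU R A N) n =
      fn (𝟙 (DE R T)) (MonoidAlgebra.single 1 (MonoidAlgebra.single n 1) : T) := by
    intro n
    rw [dsChar_comp]
    refine (congrArg w.left.appTop (dsChar_tU n)).trans ?_
    rw [← fn_eq, hw]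
    rfl
  have h5 : fn (cj z ((w ≫ tU R A N) * t₂) (w ≫ gU R A N)) a =
      fn (𝟙 _) ((rho z a).coeff.sum fun n b => (MonoidAlgebra.single n (MonoidAlgebra.single n b) : T)) := by
    rw [fn_cj, lft_apply, Finsupp.sum, Finsupp.sum, map_sum]
    refine Finset.sum_congr rfl fun n _ => ?_
    rw [h3, dsChar_mul, MonoidHom.mul_apply, h4, ht₂, ← _root_.map_mul, ← _root_.map_mul,
      MonoidAlgebra.single_mul_single, MonoidAlgebra.single_mul_single]
    simp only [_root_.one_mul, _root_.mul_one]
    rw [MonoidAlgebra.single_mul_single, _root_.one_mul, _root_.mul_one]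
  rw [key, h5] at h2
  have h6 := (fn_id_bijective (R := R) T).1 h2
  have h7 := congrArg (fun y : T => y.coeff m) h6
  rw [coeff_sum_single (B := MonoidAlgebra A (Multiplicative N)) (rho z a)
      (fun n b => MonoidAlgebra.single n b) (by simp) m,
    coeff_sum_single (B := MonoidAlgebra A (Multiplicative N)) (rho z a)
      (fun n b => rho z b) (by simp) m] at h7
  exact h7.symm

/-- the coaction attached to conjugation by `z : D(N) ⟶ Spec A`. -/
noncomputable def coactC [IsMonHom z] : Coact R A N where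
  ρ := rho z
  counit := rho_counit z
  coassoc := rho_coassoc z

/-- Homogeneous functions are semi-invariant. -/
lemma fn_cj_of_isHom [IsMonHom z] {X : Over (Spec (CommRingCat.of R))} (g : X ⟶ DE R A)
    (t : X ⟶ Red.DS (Spec (CommRingCat.of R)) N) {n : N} {a : A} (ha : (coactC z).IsHom n a) :
    fn (cj z t g) a = fn g a * dsChar t (Multiplicative.ofAdd n) := by
  have h : rho z a = MonoidAlgebra.single (Multiplicative.ofAdd n) a := ha
  rw [fn_cj, h, lft_single]

/-- Every function is a sum of homogeneous functions. -/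
lemma exists_sum [IsMonHom z] (a : A) : ∃ (s : Finset N) (b : N → A), (∀ n, (coactC z).IsHom n (b n)) ∧
    a = ∑ n ∈ s, b n :=
  ⟨(coactC z).degs a, fun n => (coactC z).comp n a, fun n => (coactC z).isHom_comp n a,
    ((coactC z).sum_comp a _ subset_rfl).symm⟩

end K15.ConjCoact
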