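import Groth.Agent.RedSub.H650.QuotPts
import Groth.Agent.Sga3.H799.Ev
import Groth.Agent.Sga3.H784.FlatDesc
import Groth.Agent.Etbase.FpqcDescent
import Groth.Agent.SGA3x.K18.Raw
import Mathlib.CategoryTheory.Monoidal.Cartesian.GrpLimits

/-!
# Quotients by central subgroups and the commutator pairing

* `exists_fibreProd`: fibre products of group objects;
* `isQuotient_fst`: the pullback of a quotient homomorphism;
* `isAffineHom_left`: a quotient homomorphism by an affine subgroup is affine;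
* `exists_pairing`: `Z ⟶ G` central, `q : G ⟶ G'` the quotient, `v : H ⟶ G'` central, `E = H ×_{G'} G`, `γ` a section of `G`:
  the commutator with `γ` induces a homomorphism `β : H ⟶ Z`.
-/

set_option autoImplicit false
universe v u
open CategoryTheory MonoidalCategory CartesianMonoidalCategory MonObj GrpObj AlgebraicGeometry Limits

namespace K15.RedCent

open Groth.Agent Groth.Agent.Sga3B Groth.Agent.Sga3B.BcPts Groth.Agent.Sga3.H799.Ev Groth.Agent.RedSub.H650.QuotPts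

section Cat

variable {C : Type u} [Category.{v} C] [CartesianMonoidalCategory C]

/-- Fibre products of group objects. -/
theorem exists_fibreProd [HasPullbacks C] {A B D : C} [GrpObj A] [GrpObj B] [GrpObj D] (f : A ⟶ D) (g : B ⟶ D)
    [IsMonHom f] [IsMonHom g] :
    ∃ (E : C) (_ : GrpObj E) (a : E ⟶ A) (b : E ⟶ B), IsMonHom a ∧ IsMonHom b ∧ IsPullback a b f g := by
  let P : Grp C := pullback (Grp.ofHom f) (Grp.ofHom g)
  have hP : IsPullback (pullback.fst (Grp.ofHom f) (Grp.ofHom g)) (pullback.snd (Grp.ofHom f) (Grp.ofHom g))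
    (Grp.ofHom f) (Grp.ofHom g) := IsPullback.of_hasPullback _ _
  have hP' := hP.map (Grp.forget C)
  exact ⟨P.X, P.grp, (pullback.fst (Grp.ofHom f) (Grp.ofHom g)).hom.hom,
    (pullback.snd (Grp.ofHom f) (Grp.ofHom g)).hom.hom, inferInstance, inferInstance, hP'⟩

end Cat

variable {S : Scheme.{u}} {G G' H Z E : Over S} [GrpObj G] [GrpObj G'] [GrpObj H] [GrpObj Z] [GrpObj E]

/-- The pullback of a quotient homomorphism is a quotient homomorphism. -/
theorem isQuotient_fst (z : Z ⟶ G) [IsMonHom z] [Mono z] (q : G ⟶ G') [IsMonHom q] (hq : RedSub.IsQuotient z q)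
    (v : H ⟶ G') [IsMonHom v] (a : E ⟶ H) (b : E ⟶ G) [IsMonHom a] [IsMonHom b] (h : IsPullback a b v q) :
    ∃ k : Z ⟶ E, IsMonHom k ∧ Mono k ∧ k ≫ b = z ∧ k ≫ a = 1 ∧ RedSub.IsQuotient k a := by
  have hzq : z ≫ q = 1 := by
    have h1 := mul_comp hq (1 : Z ⟶ G) (𝟙 Z)
    rw [_root_.one_mul, Category.id_comp, MonObj.one_comp] at h1
    exact h1
  have hk : (1 : Z ⟶ H) ≫ v = z ≫ q := by rw [hzq, MonObj.one_comp]
  let k : Z ⟶ E := h.lift 1 z hk
  have hk1 : k ≫ a = 1 := h.lift_fst _ _ _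
  have hk2 : k ≫ b = z := h.lift_snd _ _ _
  have hkm : IsMonHom k := by
    apply Pts.isMonHom_of_points
    intro X x y
    apply h.hom_ext
    · rw [Category.assoc, hk1, MonObj.comp_one, MonObj.mul_comp, Category.assoc, Category.assoc, hk1,
        MonObj.comp_one, MonObj.comp_one, _root_.mul_one]
    · rw [Category.assoc, hk2, MonObj.mul_comp, MonObj.mul_comp, Category.assoc, Category.assoc, hk2]
  have hkmo : Mono k := by
    have : Mono (k ≫ b) := by rw [hk2]; infer_instance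
    exact mono_of_mono k b
  have hsq : IsPullback a.left b.left v.left q.left := h.map (Over.forget S)
  refine ⟨k, hkm, hkmo, hk2, hk1, MorphismProperty.of_isPullback hsq.flip hq.1,
    MorphismProperty.of_isPullback hsq.flip hq.2.1, MorphismProperty.of_isPullback hsq.flip hq.2.2.1,
    isPullback_of_ptQuot ?_⟩
  intro T e e'
  constructor
  · intro he
    have h1 : (e ≫ b) ≫ q = (e' ≫ b) ≫ q := by
      rw [Category.assoc, Category.assoc, ← h.w, ← Category.assoc, ← Category.assoc, he]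
    obtain ⟨y, hy⟩ := (ptQuot_of_isPullback hq.2.2.2 T _ _).1 h1
    refine ⟨y, ?_⟩
    apply h.hom_ext
    · rw [MonObj.mul_comp, Category.assoc, hk1, MonObj.comp_one, he, _root_.mul_one]
    · rw [MonObj.mul_comp, Category.assoc, hk2, hy]
  · rintro ⟨y, rfl⟩
    rw [MonObj.mul_comp, Category.assoc, hk1, MonObj.comp_one, _root_.mul_one]

omit [GrpObj G'] [GrpObj Z] in
/-- A quotient homomorphism by an affine subgroup is affine. -/
theorem isAffineHom_left (z : Z ⟶ G) (q : G ⟶ G') (hq : RedSub.IsQuotient z q) [IsAffineHom Z.hom] :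
    IsAffineHom q.left := by
  have hsq : IsPullback (fst G Z).left ((G ◁ z) ≫ μ[G]).left q.left q.left := hq.2.2.2.map (Over.forget S)
  have h1 : IsAffineHom (fst G Z).left := by
    have h2 : (fst G Z).left = pullback.fst G.hom Z.hom := rfl
    rw [h2]
    exact MorphismProperty.pullback_fst (P := @IsAffineHom) _ _ inferInstance
  have := hq.1
  have := hq.2.1
  have := hq.2.2.1
  exact MorphismProperty.of_isPullback_of_descendsAlong (P := @IsAffineHom)
    (Q := (@Surjective ⊓ @Flat ⊓ @LocallyOfFinitePresentation : MorphismProperty Scheme.{u})) hsq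
    ⟨⟨inferInstance, inferInstance⟩, inferInstance⟩ h1

/-- **The commutator pairing.** -/
theorem exists_pairing (z : Z ⟶ G) [IsMonHom z] [Mono z] (q : G ⟶ G') [IsMonHom q] (hq : RedSub.IsQuotient z q)
    [IsAffineHom Z.hom]
    (hc : ∀ (X : Over S) (x : X ⟶ Z) (g : X ⟶ G), (x ≫ z) * g = g * (x ≫ z))
    (v : H ⟶ G') [IsMonHom v] (hv : ∀ (X : Over S) (x : X ⟶ H) (g : X ⟶ G'), (x ≫ v) * g = g * (x ≫ v))
    (a : E ⟶ H) (b : E ⟶ G) [IsMonHom a] [IsMonHom b] (h : IsPullback a b v q) (γ : 𝟙_ (Over S) ⟶ G) :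
    ∃ β : H ⟶ Z, IsMonHom β ∧ a ≫ β ≫ z = b * (toUnit E ≫ γ) * b⁻¹ * (toUnit E ≫ γ)⁻¹ := by
  have hzq : z ≫ q = 1 := by
    have h1 := mul_comp hq (1 : Z ⟶ G) (𝟙 Z)
    rw [_root_.one_mul, Category.id_comp, MonObj.one_comp] at h1
    exact h1
  obtain ⟨k, hkm, hkmo, hk2, hk1, hka⟩ := isQuotient_fst z q hq v a b h
  let c : E ⟶ G := b * (toUnit E ≫ γ) * b⁻¹ * (toUnit E ≫ γ)⁻¹
  have hcq : (1 : E ⟶ G) ≫ q = c ≫ q := by
    have h1 : c ≫ q = (a ≫ v) * (toUnit E ≫ γ ≫ q) * (a ≫ v)⁻¹ * (toUnit E ≫ γ ≫ q)⁻¹ := by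
      simp only [c, MonObj.mul_comp, GrpObj.inv_comp, Category.assoc, h.w]
    rw [MonObj.one_comp, h1, hv, mul_inv_cancel_right, mul_inv_cancel]
  obtain ⟨κ, hκ⟩ := (ptQuot_of_isPullback hq.2.2.2 E _ _).1 hcq
  rw [_root_.one_mul] at hκ
  have hκ' : ∀ (T : Over S) (e : T ⟶ E), e ≫ κ ≫ z =
      (e ≫ b) * (toUnit T ≫ γ) * (e ≫ b)⁻¹ * (toUnit T ≫ γ)⁻¹ := by
    intro T e
    rw [← hκ]
    simp only [c, MonObj.comp_mul, GrpObj.comp_inv, ← Category.assoc, comp_toUnit]
  have hκm : IsMonHom κ := by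
    apply Pts.isMonHom_of_points
    intro X x y
    have hKc : ∀ t : X ⟶ G, (y ≫ κ ≫ z) * t = t * (y ≫ κ ≫ z) := fun t => by
      rw [← Category.assoc]
      exact hc X (y ≫ κ) t
    have h5 : (y ≫ κ ≫ z) * ((x ≫ b) * (toUnit X ≫ γ) * (x ≫ b)⁻¹ * (toUnit X ≫ γ)⁻¹) =
        (x ≫ b) * (y ≫ κ ≫ z) * (toUnit X ≫ γ) * (x ≫ b)⁻¹ * (toUnit X ≫ γ)⁻¹ := by
      rw [← _root_.mul_assoc, ← _root_.mul_assoc, ← _root_.mul_assoc, hKc]
    rw [← cancel_mono z, MonObj.mul_comp (x ≫ κ), Category.assoc, Category.assoc, Category.assoc, hκ', hκ' X x,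
      ← hKc, h5, hκ' X y, MonObj.mul_comp]
    group
  obtain ⟨β, hβ⟩ := exists_desc hka κ (fun T e y => by
    rw [← cancel_mono z, Category.assoc, Category.assoc, hκ', hκ', MonObj.mul_comp, Category.assoc, hk2]
    have h1 := hc T y (toUnit T ≫ γ)
    have h2 : (e ≫ b) * (y ≫ z) * (toUnit T ≫ γ) = (e ≫ b) * (toUnit T ≫ γ) * (y ≫ z) := by
      rw [_root_.mul_assoc, h1, _root_.mul_assoc]
    rw [h2, _root_.mul_inv_rev, _root_.mul_assoc ((e ≫ b) * (toUnit T ≫ γ)), mul_inv_cancel_left])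
  have haff : IsAffineHom a.left := isAffineHom_left k a hka
  have h1 := hka.1
  have h2 := hka.2.1
  refine ⟨β, ?_, ?_⟩
  · exact Sga3.H784.FlatDesc.isMonHom_desc a β (by rw [hβ]; exact hκm)
  · rw [← Category.assoc, hβ, ← hκ]

end K15.RedCent
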