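import Groth.Agent.SGA3x.K15.RedCent
import Groth.Agent.SGA3x.K14.FpqcExt

/-!
# The commutator pairing along the tautological section

`taut G`: the tautological section of `G` over `G`.
-/

set_option autoImplicit false
universe v u
open CategoryTheory MonoidalCategory CartesianMonoidalCategory MonObj GrpObj AlgebraicGeometry Limits

namespace K15.RedCentSec

open Groth.Agent Groth.Agent.Sga3B Groth.Agent.Sga3B.BcPts Groth.Agent.Sga3.H799.Ev
open Groth.Agent.Sga3.H798.SubTorus (ev_map)

variable {S : Scheme.{u}}

/-- The tautological section of `G` over `G`. -/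
noncomputable def taut (G : Over S) : 𝟙_ (Over G.left) ⟶ Red.bc G.hom G := pt (f := G.hom) (𝟙 G)

lemma taut_left_fst (G : Over S) : (taut G).left ≫ pullback.fst G.hom G.hom = 𝟙 G.left := by
  rw [taut, pt, K18.Raw.bcEquiv_left_fst]
  simp only [str, Over.comp_left, Over.homMk_left, Over.id_left]
  exact (Category.comp_id _).trans rfl

/-- The tautological section becomes trivial over schemes mapping into the unit section. -/
lemma map_taut_eq_one (G E : Over S) [GrpObj G] {X : Scheme.{u}} (w : X ⟶ G.left)
    (hw : w ≫ G.hom ≫ (η[G] : 𝟙_ (Over S) ⟶ G).left = w) :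
    (Over.pullback w).map (toUnit (Red.bc G.hom E) ≫ taut G) =
      (Over.pullback w).map ((Over.pullback G.hom).map (1 : E ⟶ G)) := by
  apply K18.Raw.bc_hom_ext
  rw [K18.Raw.map_left_fst, K18.Raw.map_left_fst]
  apply pullback.hom_ext
  · rw [Category.assoc, Category.assoc, K18.Raw.map_left_fst, Over.comp_left, Category.assoc]
    have h1 := taut_left_fst G
    have h2 : (toUnit (Red.bc G.hom E)).left ≫ (taut G).left ≫ pullback.fst G.hom G.hom = (Red.bc G.hom E).hom := by
      rw [h1]
      exact (Category.comp_id _).trans rfl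
    rw [h2]
    have h3 : (1 : E ⟶ G).left = E.hom ≫ (η[G] : 𝟙_ (Over S) ⟶ G).left := by
      rw [Hom.one_def, Over.comp_left]
      rfl
    rw [h3]
    have h4 : pullback.fst E.hom G.hom ≫ E.hom = pullback.snd E.hom G.hom ≫ G.hom := pullback.condition
    have h5 : pullback.fst (Red.bc G.hom E).hom w ≫ (Red.bc G.hom E).hom =
      pullback.snd (Red.bc G.hom E).hom w ≫ w := pullback.condition
    have h6 : (Red.bc G.hom E).hom = pullback.snd E.hom G.hom := rfl
    rw [reassoc_of% h4, h5, ← h6, reassoc_of% h5, hw]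
  · have h1 := Over.w (toUnit (Red.bc G.hom E) ≫ taut G)
    have h2 := Over.w ((Over.pullback G.hom).map (1 : E ⟶ G))
    rw [Category.assoc, Category.assoc]
    exact congrArg _ (h1.trans h2.symm)

/-- Commutation with the tautological section is commutation with all points. -/
lemma comm_of_taut {G E : Over S} [GrpObj G] (b : E ⟶ G)
    (h : (Over.pullback G.hom).map b * (toUnit (Red.bc G.hom E) ≫ taut G) =
      (toUnit (Red.bc G.hom E) ≫ taut G) * (Over.pullback G.hom).map b) (X : Over S) (x : X ⟶ E) (g : X ⟶ G) :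
    (x ≫ b) * g = g * (x ≫ b) := by
  have h1 := congrArg (fun φ => ev (f := G.hom) φ x (g : X ⟶ Over.mk G.hom)) h
  simp only [ev_hmul, ev_map, taut, ev_toUnit_pt] at h1
  have h2 : (g : X ⟶ Over.mk G.hom) ≫ (𝟙 G : Over.mk G.hom ⟶ G) = g := Category.comp_id g
  rw [h2] at h1
  exact h1

end K15.RedCentSec
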